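import Groth.Agent.L18.RatPoint.QuadTransform
import Groth.Agent.L07.DVRProper
import Groth.Agent.L18.ExtendCodimOne
import Groth.Agent.L10.RegularUFD
import Groth.Agent.S0564
import Mathlib.AlgebraicGeometry.ResidueField
import Mathlib.AlgebraicGeometry.ZariskisMainTheorem
import Mathlib.AlgebraicGeometry.Morphisms.Flat
import Mathlib.FieldTheory.RatFunc.AsPolynomial
import Mathlib.RingTheory.Ideal.KrullsHeightTheorem

/-!
Rational points of proper schemes without rational curves over regular local rings extend.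
-/

set_option autoImplicit false
set_option linter.style.haveILetI false
set_option backward.isDefEq.respectTransparency.types false

universe u

open CategoryTheory CategoryTheory.Limits AlgebraicGeometry TopologicalSpace IsLocalRing

noncomputable section

namespace Groth.L18.RatPoint

/-- `Spec K(T) ⟶ Spec K`. -/
abbrev ratProj (K : Type u) [Field K] : Spec (CommRingCat.of (RatFunc K)) ⟶ Spec (CommRingCat.of K) :=
  Spec.map (CommRingCat.ofHom (algebraMap K (RatFunc K)))

/-- The points with values in purely transcendental fields of degree one are constant. -/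
def NoRat {G T : Scheme.{u}} (g : G ⟶ T) : Prop :=
  ∀ (K : Type u) [Field K] (b : Spec (CommRingCat.of K) ⟶ T) (m : Spec (CommRingCat.of (RatFunc K)) ⟶ G),
    m ≫ g = ratProj K ≫ b → ∃ a : Spec (CommRingCat.of K) ⟶ G, m = ratProj K ≫ a

theorem epi_ratProj (K : Type u) [Field K] : Epi (ratProj K) := by
  haveI : Flat (ratProj K) := (HasRingHomProperty.Spec_iff (P := @Flat)).2
    ((RingHom.flat_algebraMap_iff (R := K) (S := RatFunc K)).2 inferInstance)
  haveI : Subsingleton (Spec (CommRingCat.of K)) := inferInstanceAs (Subsingleton (PrimeSpectrum K))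
  haveI : Surjective (ratProj K) :=
    ⟨fun y => ⟨closedPoint (RatFunc K), Subsingleton.elim _ y⟩⟩
  exact Flat.epi_of_flat_of_surjective _

theorem NoRat.pullback {G T T' : Scheme.{u}} {g : G ⟶ T} (h : NoRat g) (q : T' ⟶ T) :
    NoRat (pullback.snd g q) := by
  intro K _ b m hm
  obtain ⟨a, ha⟩ := h K (b ≫ q) (m ≫ pullback.fst g q) (by
    rw [Category.assoc, pullback.condition, reassoc_of% hm])
  haveI := epi_ratProj K
  refine ⟨pullback.lift a b ((cancel_epi (ratProj K)).1 ?_), pullback.hom_ext ?_ ?_⟩
  · rw [← reassoc_of% ha, pullback.condition, reassoc_of% hm]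
  · rw [Category.assoc, pullback.lift_fst, ha]
  · rw [Category.assoc, pullback.lift_snd, hm]

variable {R : Type u} [CommRing R] {K : Type u} [Field K] [Algebra R K]

local notation "gen" => Spec.map (CommRingCat.ofHom (algebraMap R K))

theorem isDominant_specMap {A B : Type u} [CommRing A] [CommRing B] [IsDomain A] (φ : A →+* B)
    (hφ : Function.Injective φ) : IsDominant (Spec.map (CommRingCat.ofHom φ)) :=
  ⟨(PrimeSpectrum.denseRange_comap_iff_ker_le_nilRadical φ).2
    (by rw [(RingHom.injective_iff_ker_eq_bot φ).1 hφ]; exact bot_le)⟩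

/-- Two points agreeing on the fraction field are equal. -/
theorem ext_frac {A : Type u} [CommRing A] [IsDomain A] {L : Type u} [Field L] (φ : A →+* L)
    (hφ : Function.Injective φ) {G T : Scheme.{u}} (g : G ⟶ T) [IsSeparated g]
    {s s' : Spec (CommRingCat.of A) ⟶ G} (h : s ≫ g = s' ≫ g)
    (h' : Spec.map (CommRingCat.ofHom φ) ≫ s = Spec.map (CommRingCat.ofHom φ) ≫ s') : s = s' := by
  haveI := isDominant_specMap φ hφ
  exact ext_of_isDominant_of_isSeparated g h _ h'

/-- The case of valuation rings. -/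
theorem exists_extension_valuation [IsDomain R] [ValuationRing R] [IsFractionRing R K] {G : Scheme.{u}}
    (g : G ⟶ Spec (CommRingCat.of R)) [IsProper g] (η : Spec (CommRingCat.of K) ⟶ G) (hη : η ≫ g = gen) :
    ∃ σ : Spec (CommRingCat.of R) ⟶ G, σ ≫ g = 𝟙 _ ∧ gen ≫ σ = η := by
  have hex : ValuativeCriterion.Existence g := by
    have h1 : (@UniversallyClosed : MorphismProperty Scheme.{u}) g := inferInstance
    rw [UniversallyClosed.eq_valuativeCriterion] at h1
    exact h1.1
  obtain ⟨⟨l, h1, h2⟩⟩ := hex { R := R, K := K, i₁ := η, i₂ := 𝟙 _, commSq := ⟨hη.trans (Category.comp_id _).symm⟩ }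
  exact ⟨l, h2, h1⟩

/-- A point of a field-valued point factoring through a smaller field. -/
theorem range_residue_subset {G : Scheme.{u}} {L F : Type u} [Field L] [Field F] (i : F →+* L)
    (a : Spec (CommRingCat.of F) ⟶ G) (x : G) (r : G.residueField x ⟶ CommRingCat.of L)
    (h : Spec.map r ≫ G.fromSpecResidueField x = Spec.map (CommRingCat.ofHom i) ≫ a)
    (c : G.residueField x) : r c ∈ i.range := by
  obtain ⟨⟨y, s⟩, rfl⟩ := (Scheme.SpecToEquivOfField F G).symm.surjective a
  have he : (⟨x, r⟩ : Σ z, G.residueField z ⟶ CommRingCat.of L) = ⟨y, s ≫ CommRingCat.ofHom i⟩ :=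
    (Scheme.SpecToEquivOfField L G).symm.injective (by
      show Spec.map r ≫ G.fromSpecResidueField x = Spec.map (s ≫ CommRingCat.ofHom i) ≫ _
      rw [h, Spec.map_comp, Category.assoc]
      rfl)
  obtain ⟨rfl, hr⟩ := Sigma.mk.inj_iff.1 he
  rw [eq_of_heq hr]
  exact ⟨s c, rfl⟩

/-- A point all whose residue functions are algebraic over the residue field of the base is closed in
its fibre. -/
theorem eq_of_specializes_of_algebraic [IsLocalRing R] {G : Scheme.{u}} (g : G ⟶ Spec (CommRingCat.of R))
    {z z' : G} (hzz : z ⤳ z') {L : Type u} [Field L] [Algebra (ResidueField R) L]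
    (ψ : G.residueField z ⟶ CommRingCat.of L)
    (hψ : Spec.map ψ ≫ G.fromSpecResidueField z ≫ g =
      Spec.map (CommRingCat.ofHom ((algebraMap (ResidueField R) L).comp (residue R))))
    (halg : ∀ c, IsAlgebraic (ResidueField R) (ψ c : L)) : z = z' := by
  obtain ⟨_, ⟨U, hU, rfl⟩, hz'U, -⟩ :=
    G.isBasis_affineOpens.exists_subset_of_mem_open (Set.mem_univ z') isOpen_univ
  replace hU : IsAffineOpen U := hU
  have hzU : z ∈ U := hzz.mem_open U.2 hz'U
  let χ : Γ(G, U) ⟶ CommRingCat.of L := G.presheaf.germ U z hzU ≫ G.residue z ≫ ψ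
  obtain ⟨ρ, hρ⟩ : ∃ ρ : CommRingCat.of R ⟶ Γ(G, U), Spec.map ρ = hU.fromSpec ≫ g :=
    ⟨Spec.preimage _, Spec.map_preimage _⟩
  have hχρ : ρ ≫ χ = CommRingCat.ofHom ((algebraMap (ResidueField R) L).comp (residue R)) := by
    apply Spec.map_injective
    rw [← hψ, Spec.map_comp, hρ, ← Category.assoc]
    rw [← Category.assoc (Spec.map ψ)]
    congr 1
    rw [Scheme.fromSpecResidueField]
    show Spec.map (G.presheaf.germ U z hzU ≫ G.residue z ≫ ψ) ≫ hU.fromSpec = _
    rw [Spec.map_comp, Spec.map_comp, Category.assoc, Category.assoc,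
      ← hU.fromSpecStalk_eq_fromSpecStalk hzU]
    rfl
  let S : Subalgebra (ResidueField R) L :=
    { χ.hom.range.toSubsemiring with
      algebraMap_mem' := fun c => by
        obtain ⟨r, rfl⟩ := residue_surjective c
        exact ⟨ρ r, congr($hχρ r)⟩ }
  have hS : IsField S :=
    { Subalgebra.toCommRing S with
      exists_pair_ne := ⟨0, 1, zero_ne_one⟩
      mul_inv_cancel := fun {a} ha => by
        obtain ⟨t, ht⟩ := a.2
        have halg' : IsAlgebraic (ResidueField R) (a : L) := ht ▸ halg _
        exact ⟨⟨(a : L)⁻¹, S.inv_mem_of_algebraic halg'⟩,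
          Subtype.ext (mul_inv_cancel₀ (mt (Subalgebra.coe_eq_zero _).mp ha))⟩ }
  have hmax : (RingHom.ker χ.hom).IsMaximal := by
    let f : Γ(G, U) →+* S := χ.hom.codRestrict S fun t => ⟨t, rfl⟩
    have hf : Function.Surjective f := fun ⟨_, t, ht⟩ => ⟨t, Subtype.ext ht⟩
    have : RingHom.ker χ.hom = RingHom.ker f := by
      ext t
      simp only [RingHom.mem_ker, f, ← Subtype.val_inj]
      rfl
    rw [this]
    letI := hS.toField
    exact RingHom.ker_isMaximal_of_surjective f hf
  have hker : RingHom.ker χ.hom = (hU.primeIdealOf ⟨z, hzU⟩).asIdeal := by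
    rw [hU.primeIdealOf_eq_map_closedPoint]
    show RingHom.ker χ.hom = (maximalIdeal _).comap (G.presheaf.germ U z hzU).hom
    rw [← IsLocalRing.ker_residue]
    rw [RingHom.comap_ker]
    exact RingHom.ker_comp_of_injective ((residue _).comp (G.presheaf.germ U z hzU).hom) ψ.hom.injective
  have hle : (hU.primeIdealOf ⟨z, hzU⟩).asIdeal ≤ (hU.primeIdealOf ⟨z', hz'U⟩).asIdeal := by
    apply (PrimeSpectrum.le_iff_specializes _ _).2
    refine hU.fromSpec.isOpenEmbedding.isInducing.specializes_iff.1 ?_
    rw [hU.fromSpec_primeIdealOf ⟨z, hzU⟩, hU.fromSpec_primeIdealOf ⟨z', hz'U⟩]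
    exact hzz
  rw [hker] at hmax
  have := hmax.eq_of_le (hU.primeIdealOf ⟨z', hz'U⟩).isPrime.ne_top hle
  exact (hU.fromSpec_primeIdealOf ⟨z, hzU⟩).symm.trans
    ((congrArg hU.fromSpec (PrimeSpectrum.ext this)).trans (hU.fromSpec_primeIdealOf ⟨z', hz'U⟩))

theorem finite_of_discrete {G : Scheme.{u}} [IsNoetherian G] {C : Set G} (hC : IsClosed C)
    (h : ∀ z ∈ C, ∀ z' ∈ C, z ⤳ z' → z = z') : C.Finite := by
  obtain ⟨S, hS, hunion⟩ := NoetherianSpace.exists_finset_irreducible (⟨C, hC⟩ : Closeds G)
  have : C ⊆ ⋃ Z ∈ S, (Z : Set G) := fun z hz => by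
    have hz' : z ∈ ((S.sup id : Closeds G) : Set G) := hunion ▸ hz
    rw [Closeds.coe_finset_sup, Finset.sup_set_eq_biUnion] at hz'
    exact hz'
  refine (S.finite_toSet.biUnion fun Z hZS => ?_).subset this
  obtain ⟨w, hw⟩ := QuasiSober.sober (hS ⟨Z, hZS⟩) Z.isClosed
  have hZC : (Z : Set G) ⊆ C := by
    have hle : Z ≤ (⟨C, hC⟩ : Closeds G) := hunion ▸ Finset.le_sup (f := id) hZS
    exact hle
  refine (Set.finite_singleton w).subset fun z hz => ?_
  exact (h w (hZC hw.mem) z (hZC hz) (hw.specializes hz)).symm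

section Surface

variable [IsRegularLocalRing R] [IsDomain R] [IsFractionRing R K] {G : Scheme.{u}}
  (g : G ⟶ Spec (CommRingCat.of R)) [IsProper g]

/-- The points in the closed fibre of the closure of a rational point have algebraic residue fields. -/
theorem eq_of_specializes_surface (hd : ringKrullDim R = 2) (hg : NoRat g)
    (η : Spec (CommRingCat.of K) ⟶ G) (hη : η ≫ g = gen) {z z' : G}
    (h : η (closedPoint K) ⤳ z) (hz : g z = closedPoint R) (hzz : z ⤳ z') : z = z' := by
  haveI : IsLocallyNoetherian G := LocallyOfFiniteType.isLocallyNoetherian g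
  set x₁ := η (closedPoint K) with hx₁
  have hg1 : g x₁ = gen (closedPoint K) := by rw [hx₁, ← Scheme.Hom.comp_apply, hη]
  have hne : x₁ ≠ z := by
    intro he
    have h1 : gen (closedPoint K) = closedPoint R := by rw [← hg1, he, hz]
    have h2 : (maximalIdeal K).comap (algebraMap R K) = maximalIdeal R := congrArg PrimeSpectrum.asIdeal h1
    rw [isField_iff_maximalIdeal_eq.1 (Field.toIsField K), ← RingHom.ker_eq_comap_bot,
      (RingHom.injective_iff_ker_eq_bot _).1 (IsFractionRing.injective R K)] at h2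
    have := isField_iff_maximalIdeal_eq.2 h2.symm
    rw [ringKrullDim_eq_zero_of_isField this] at hd
    exact absurd hd (by norm_num)
  obtain ⟨W, t, hW, htz, ht⟩ := Groth.L07.DVRProper.exists_dvr_through' h hne
  haveI := hW
  -- the residue field of the generic point is the fraction field
  let r : G.residueField x₁ ⟶ CommRingCat.of K := G.descResidueField (Scheme.stalkClosedPointTo η)
  have hr : Spec.map r ≫ G.fromSpecResidueField x₁ = η :=
    Scheme.descResidueField_stalkClosedPointTo_fromSpecResidueField K G η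
  obtain ⟨φ, hφ⟩ : ∃ φ : CommRingCat.of R ⟶ CommRingCat.of W, Spec.map φ = t ≫ g :=
    ⟨Spec.preimage _, Spec.map_preimage _⟩
  have hrφ : ∀ a : R, r (φ a : G.residueField x₁) = algebraMap R K a := by
    have : φ ≫ CommRingCat.ofHom W.subtype ≫ r = CommRingCat.ofHom (algebraMap R K) := by
      apply Spec.map_injective
      rw [← hη, Spec.map_comp, Spec.map_comp, hφ, Category.assoc, reassoc_of% ht, reassoc_of% hr]
    exact fun a => congr($this a)
  have hloc : IsLocalHom φ.hom := by
    have h1 : Spec.map φ (closedPoint W) = closedPoint R := by rw [hφ, Scheme.Hom.comp_apply, htz, hz]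
    exact ((IsLocalRing.local_hom_TFAE φ.hom).out 0 4).2 (congrArg PrimeSpectrum.asIdeal h1)
  letI : Algebra (ResidueField R) (ResidueField W) := (ResidueField.map φ.hom).toAlgebra
  have hbase : ∀ a : R, algebraMap (ResidueField R) (ResidueField W) (residue R a) = residue W (φ a) :=
    fun a => ResidueField.map_residue φ.hom a
  have hfrac : ∀ w : W, ∃ a ∈ φ.hom.range, ∃ b ∈ φ.hom.range, b ≠ 0 ∧ w * b = a := by
    intro w
    obtain ⟨a, b, hb, hab⟩ := IsFractionRing.div_surjective R (r (w : G.residueField x₁))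
    refine ⟨φ a, ⟨a, rfl⟩, φ b, ⟨b, rfl⟩, fun h0 => ?_, Subtype.ext (r.hom.injective ?_)⟩
    · have := hrφ b
      rw [h0] at this
      exact nonZeroDivisors.ne_zero hb (IsFractionRing.injective R K ((this.symm.trans (map_zero r.hom)).trans (map_zero _).symm))
    · show r.hom ((w : G.residueField x₁) * (φ b : W)) = r.hom (φ a : W)
      rw [map_mul, hrφ, hrφ, ← hab, div_mul_cancel₀ _ (IsFractionRing.to_map_ne_zero_of_mem_nonZeroDivisors hb)]
  have hM : Model (ResidueField R) φ.hom.range := by
    refine ⟨?_, fun c => ?_, ?_⟩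
    · rintro _ ⟨a, rfl⟩
      rw [← hbase]
      exact isAlgebraic_algebraMap _
    · obtain ⟨a, rfl⟩ := residue_surjective c
      exact ⟨φ a, ⟨a, rfl⟩, (hbase a).symm⟩
    · obtain ⟨s, hs, hspan⟩ := Submodule.FG.exists_span_finset_card_eq_spanFinrank
        (IsNoetherian.noetherian (maximalIdeal R))
      have h2 : s.card = 2 := by
        have h1 := (isRegularLocalRing_iff R).1 ‹_›
        rw [hd] at h1
        rw [hs]
        exact_mod_cast h1
      classical
      obtain ⟨x, y, -, hsxy⟩ := Finset.card_eq_two.1 h2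
      subst hsxy
      have hmem : x ∈ maximalIdeal R ∧ y ∈ maximalIdeal R := by
        rw [← hspan]
        exact ⟨Submodule.subset_span (by simp), Submodule.subset_span (by simp)⟩
      refine ⟨φ x, ⟨x, rfl⟩, φ y, ⟨y, rfl⟩, ?_, ?_, ?_⟩
      · rw [← hbase, (residue_eq_zero_iff x).2 hmem.1, map_zero]
      · rw [← hbase, (residue_eq_zero_iff y).2 hmem.2, map_zero]
      · rintro _ ⟨a, rfl⟩ ha
        rw [← hbase, map_eq_zero] at ha
        have ha' : a ∈ Submodule.span R ({x, y} : Set R) := by
          have := (residue_eq_zero_iff a).1 ha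
          rw [← hspan] at this
          simpa using this
        obtain ⟨p, q, hpq⟩ := Submodule.mem_span_pair.1 ha'
        exact ⟨φ p, ⟨p, rfl⟩, φ q, ⟨q, rfl⟩, by rw [← hpq]; simp⟩
  have htot : ∀ a b : W, (∃ c, b = c * a) ∨ ∃ c, a = c * b := fun a b => by
    obtain ⟨c, h | h⟩ := ValuationRing.cond a b
    · exact Or.inl ⟨c, by rw [mul_comm, h]⟩
    · exact Or.inr ⟨c, by rw [mul_comm, h]⟩
  -- the point with values in the residue field of the trait
  let ψ₀ : Spec (CommRingCat.of (ResidueField W)) ⟶ G := Spec.map (CommRingCat.ofHom (residue W)) ≫ t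
  have hψ₀z : ψ₀ (closedPoint (ResidueField W)) = z := by
    rw [← htz]
    show t (Spec.map (CommRingCat.ofHom (residue W)) _) = t _
    congr 1
    refine PrimeSpectrum.ext ?_
    show (maximalIdeal (ResidueField W)).comap (residue W) = maximalIdeal W
    rw [isField_iff_maximalIdeal_eq.1 (Field.toIsField (ResidueField W)), ← RingHom.ker_eq_comap_bot, ker_residue]
  have hψ₀g : ψ₀ ≫ g = Spec.map (CommRingCat.ofHom
      ((algebraMap (ResidueField R) (ResidueField W)).comp (residue R))) := by
    rw [Category.assoc, ← hφ, ← Spec.map_comp]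
    congr 1
  obtain ⟨ψ, hψ⟩ : ∃ ψ : G.residueField z ⟶ CommRingCat.of (ResidueField W),
      Spec.map ψ ≫ G.fromSpecResidueField z = ψ₀ := by
    rw [← hψ₀z]
    exact ⟨_, Scheme.descResidueField_stalkClosedPointTo_fromSpecResidueField _ G ψ₀⟩
  refine eq_of_specializes_of_algebraic g hzz ψ (by rw [reassoc_of% hψ]; exact hψ₀g) fun c => ?_
  rcases algebraic_or_oneGen htot φ.hom.range hM hfrac with halg | ⟨τ, hτ, htop⟩
  · exact halg _
  let F := algebraicClosure (ResidueField R) (ResidueField W)
  have hτF : Transcendental F τ := fun hF => hτ (hF.restrictScalars (ResidueField R))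
  let e₀ : RatFunc F →ₐ[F] ResidueField W := RatFunc.liftAlgHom (Polynomial.aeval τ)
    (nonZeroDivisors_le_comap_nonZeroDivisors_of_injective _ (transcendental_iff_injective.1 hτF))
  have he₀ : Function.Bijective e₀ := by
    refine ⟨RingHom.injective _, fun y => ?_⟩
    have hsub : IntermediateField.adjoin F {τ} ≤ e₀.fieldRange :=
      IntermediateField.adjoin_le_iff.2 (Set.singleton_subset_iff.2 ⟨RatFunc.X, by
        show e₀ RatFunc.X = τ
        rw [← RatFunc.algebraMap_X, ← div_one (algebraMap (Polynomial F) (RatFunc F) Polynomial.X),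
          ← map_one (algebraMap (Polynomial F) (RatFunc F)), RatFunc.liftAlgHom_apply_div, Polynomial.aeval_X,
          map_one, div_one]⟩)
    exact hsub (htop.ge IntermediateField.mem_top)
  let e : CommRingCat.of (RatFunc F) ⟶ CommRingCat.of (ResidueField W) := CommRingCat.ofHom e₀.toRingHom
  haveI : IsIso e := (ConcreteCategory.isIso_iff_bijective e).2 he₀
  let i : F →+* ResidueField W := algebraMap F (ResidueField W)
  let b : Spec (CommRingCat.of F) ⟶ Spec (CommRingCat.of R) :=
    Spec.map (CommRingCat.ofHom ((algebraMap (ResidueField R) F).comp (residue R)))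
  have hcomp : Spec.map e ≫ ratProj F = Spec.map (CommRingCat.ofHom i) := by
    rw [← Spec.map_comp]
    congr 1
    ext f
    exact e₀.commutes f
  obtain ⟨a, ha⟩ := hg F b (inv (Spec.map e) ≫ ψ₀) (by
    rw [Category.assoc, IsIso.inv_comp_eq, reassoc_of% hcomp, hψ₀g, ← Spec.map_comp]
    rfl)
  rw [IsIso.inv_comp_eq, reassoc_of% hcomp] at ha
  obtain ⟨f, hf⟩ := range_residue_subset i a z ψ (hψ.trans ha) c
  rw [← hf]
  exact mem_algebraicClosure_iff.1 f.2

/-- Rational points extend over two-dimensional regular local rings. -/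
theorem exists_extension_surface (hd : ringKrullDim R = 2) (hg : NoRat g)
    (η : Spec (CommRingCat.of K) ⟶ G) (hη : η ≫ g = gen) :
    ∃ σ : Spec (CommRingCat.of R) ⟶ G, σ ≫ g = 𝟙 _ ∧ gen ≫ σ = η := by
  haveI : IsNoetherian (Spec (CommRingCat.of R)) := inferInstance
  haveI : IsLocallyNoetherian G := LocallyOfFiniteType.isLocallyNoetherian g
  haveI : CompactSpace G := QuasiCompact.compactSpace_of_compactSpace g
  haveI : IsNoetherian G := ⟨⟩
  haveI : QuasiCompact η := inferInstance
  let π : η.image ⟶ Spec (CommRingCat.of R) := η.imageι ≫ g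
  haveI : IsProper π := inferInstance
  have hpt : ∀ p : Spec (CommRingCat.of K), p = closedPoint K := fun p =>
    @Subsingleton.elim _ (inferInstanceAs (Subsingleton (PrimeSpectrum K))) _ _
  have hrange : Set.range η.imageι ⊆ closure {η (closedPoint K)} := by
    rw [Scheme.IdealSheafData.range_subschemeι, Scheme.Hom.support_ker]
    refine closure_mono ?_
    rintro _ ⟨p, rfl⟩
    rw [hpt p]
    rfl
  have hC : (closure {η (closedPoint K)} ∩ g ⁻¹' {closedPoint R}).Finite :=
    finite_of_discrete (isClosed_closure.inter ((IsLocalRing.isClosed_singleton_closedPoint R).preimage g.continuous))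
      fun z hz z' hz' hzz =>
        eq_of_specializes_surface g hd hg η hη (specializes_iff_mem_closure.2 hz.1) hz.2 hzz
  obtain ⟨V, hmV, hV⟩ := exists_isFinite_morphismRestrict_of_finite_preimage_singleton π (closedPoint R)
    ((hC.preimage η.imageι.isClosedEmbedding.injective.injOn).subset fun p hp =>
      ⟨hrange ⟨p, rfl⟩, by rw [Set.mem_preimage, ← Scheme.Hom.comp_apply]; exact hp⟩)
  have hVtop : V = ⊤ := top_unique fun p _ =>
    (IsLocalRing.specializes_closedPoint p).mem_open V.2 hmV
  subst hVtop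
  haveI : IsFinite π :=
    (IsZariskiLocalAtTarget.iff_of_iSup_eq_top (P := @IsFinite) (fun _ : Unit => ⊤) (by simp)).2 fun _ => hV
  haveI : IsAffine η.image := isAffine_of_isAffineHom π
  obtain ⟨ρ, hρ⟩ : ∃ ρ : CommRingCat.of R ⟶ Γ(η.image, ⊤), Spec.map ρ = η.image.isoSpec.inv ≫ π :=
    ⟨Spec.preimage _, Spec.map_preimage _⟩
  let β : Γ(η.image, ⊤) ⟶ CommRingCat.of K := η.toImage.appTop ≫ (Scheme.ΓSpecIso _).hom
  have hβ : Spec.map β = η.toImage ≫ η.image.isoSpec.hom := by
    rw [Spec.map_comp, Scheme.isoSpec_hom, Scheme.toSpecΓ_naturality, SpecMap_ΓSpecIso_hom]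
  have hβinj : Function.Injective β.hom := by
    show Function.Injective ((Scheme.ΓSpecIso (CommRingCat.of K)).hom ∘ η.toImage.appTop)
    refine (ConcreteCategory.bijective_of_isIso (Scheme.ΓSpecIso (CommRingCat.of K)).hom).1.comp ?_
    exact TopCat.Presheaf.app_injective_of_stalkFunctor_map_injective (F := η.image.sheaf) η.toImage.c ⊤
      fun x _ => η.stalkFunctor_toImage_injective x
  have hρβ : ρ ≫ β = CommRingCat.ofHom (algebraMap R K) := by
    apply Spec.map_injective
    rw [Spec.map_comp, hρ, hβ, Category.assoc, Iso.hom_inv_id_assoc, ← hη, Scheme.Hom.toImage_imageι_assoc]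
  have hfin : ρ.hom.Finite := by
    rw [← IsFinite.SpecMap_iff ρ, hρ]
    infer_instance
  haveI := Groth.L10.RegUFD.isUFD R
  have hmem : ∀ x, ∃ a : R, algebraMap R K a = β.hom x := fun x => by
    obtain ⟨P, hP, hPx⟩ := hfin.to_isIntegral x
    refine IsIntegrallyClosed.isIntegral_iff.1 ⟨P, hP, ?_⟩
    have h2 := congrArg β.hom hPx
    rw [Polynomial.hom_eval₂, map_zero] at h2
    rw [← h2]
    congr 1
    exact congrArg CommRingCat.Hom.hom hρβ.symm
  choose γ hγ using hmem
  have hinj := IsFractionRing.injective R K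
  let γh : Γ(η.image, ⊤) ⟶ CommRingCat.of R := CommRingCat.ofHom
    { toFun := γ
      map_one' := hinj ((hγ 1).trans (β.hom.map_one.trans (map_one _).symm))
      map_mul' := fun a b => hinj ((hγ _).trans ((β.hom.map_mul a b).trans
        ((congrArg₂ (· * ·) (hγ a).symm (hγ b).symm).trans (map_mul _ _ _).symm)))
      map_zero' := hinj ((hγ 0).trans (β.hom.map_zero.trans (map_zero _).symm))
      map_add' := fun a b => hinj ((hγ _).trans ((β.hom.map_add a b).trans
        ((congrArg₂ (· + ·) (hγ a).symm (hγ b).symm).trans (map_add _ _ _).symm))) }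
  have hγh : γh ≫ CommRingCat.ofHom (algebraMap R K) = β := by ext x; exact hγ x
  have hργ : ρ ≫ γh = 𝟙 _ := by
    ext a
    exact hinj ((hγ (ρ a)).trans congr($hρβ a))
  refine ⟨Spec.map γh ≫ η.image.isoSpec.inv ≫ η.imageι, ?_, ?_⟩
  · rw [Category.assoc, Category.assoc, ← hρ, ← Spec.map_comp, hργ, Spec.map_id]
  · rw [← Spec.map_comp_assoc, hγh, hβ, Category.assoc, Iso.hom_inv_id_assoc, Scheme.Hom.toImage_imageι]

end Surface

/-- An element of the fraction field with a denominator prime to each prime element is integral. -/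
theorem mem_of_forall_prime [IsDomain R] [UniqueFactorizationMonoid R] [IsFractionRing R K] (z : K)
    (h : ∀ π : R, Prime π → ∃ a b : R, ¬ π ∣ b ∧ z * algebraMap R K b = algebraMap R K a) :
    ∃ a : R, algebraMap R K a = z := by
  obtain ⟨a, b, hab, he⟩ := IsFractionRing.exists_reduced_fraction (A := R) (K := K) z
  by_cases hb : IsUnit (b : R)
  · obtain ⟨c, hc⟩ := hb.exists_right_inv
    refine ⟨a * c, ?_⟩
    rw [← he, IsFractionRing.mk'_eq_div, eq_div_iff (IsFractionRing.to_map_ne_zero_of_mem_nonZeroDivisors b.2),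
      ← map_mul]
    congr 1
    linear_combination a * hc
  obtain ⟨π, hπ, hπb⟩ := WfDvdMonoid.exists_irreducible_factor hb (nonZeroDivisors.ne_zero b.2)
  obtain ⟨a', b', hb', heq⟩ := h π hπ.prime
  rw [← he, IsFractionRing.mk'_eq_div, div_mul_eq_mul_div,
    div_eq_iff (IsFractionRing.to_map_ne_zero_of_mem_nonZeroDivisors b.2), ← map_mul, ← map_mul] at heq
  have hdvd : π ∣ a * b' := by rw [IsFractionRing.injective R K heq]; exact dvd_mul_of_dvd_right hπb _
  exact absurd (hab (((hπ.prime.dvd_mul).1 hdvd).resolve_right hb') hπb) hπ.not_isUnit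

/-- Rational points extend over regular local rings. -/
theorem exists_extension : ∀ (n : ℕ) (R : Type u) [CommRing R] [IsRegularLocalRing R],
    ringKrullDim R ≤ n → ∀ (K : Type u) [Field K] [Algebra R K] [IsFractionRing R K] {G : Scheme.{u}}
      (g : G ⟶ Spec (CommRingCat.of R)) [IsProper g], NoRat g → ∀ η : Spec (CommRingCat.of K) ⟶ G,
      η ≫ g = Spec.map (CommRingCat.ofHom (algebraMap R K)) →
      ∃ σ : Spec (CommRingCat.of R) ⟶ G, σ ≫ g = 𝟙 _ ∧ Spec.map (CommRingCat.ofHom (algebraMap R K)) ≫ σ = η := by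
  intro n
  induction n using Nat.strong_induction_on with
  | h n IH =>
  intro R _ _ hn K _ _ _ G g _ hg η hη
  haveI := Groth.L01.isDomain_of_regular R
  obtain ⟨d, hd⟩ := Groth.L01.exists_dim_eq_nat (R := R)
  have hdn : d ≤ n := by rw [hd] at hn; exact_mod_cast hn
  by_cases h1 : d ≤ 1
  · obtain ⟨_, hv⟩ := Groth.L18.Codim1.isDomain_valuationRing_of_regular R (by rw [hd]; exact_mod_cast h1)
    exact exists_extension_valuation g η hη
  by_cases h2 : d = 2
  · exact exists_extension_surface g (by rw [hd, h2]; rfl) hg η hη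
  haveI := Groth.L10.RegUFD.isUFD R
  -- a regular parameter
  obtain ⟨t, ht, ht2⟩ : ∃ t ∈ maximalIdeal R, t ∉ maximalIdeal R ^ 2 := by
    refine SetLike.exists_of_lt (lt_of_le_of_ne (Ideal.pow_le_self two_ne_zero) fun he => ?_)
    have h0 : maximalIdeal R = ⊥ := by
      refine Submodule.eq_bot_of_le_smul_of_le_jacobson_bot (maximalIdeal R) _ (IsNoetherian.noetherian _) ?_
        (maximalIdeal_le_jacobson _)
      rw [smul_eq_mul, ← pow_two, he]
    rw [ringKrullDim_eq_zero_of_isField (isField_iff_maximalIdeal_eq.2 h0)] at hd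
    have : d = 0 := by exact_mod_cast hd.symm
    omega
  obtain ⟨hreg, hdim⟩ := Groth.L01.regular_quotient_of_notMem_sq ht ht2
  haveI := hreg
  let R' := R ⧸ Ideal.span {t}
  haveI : IsDomain R' := Groth.L01.isDomain_of_regular R'
  haveI hP : (Ideal.span {t}).IsPrime := (Ideal.Quotient.isDomain_iff_prime _).1 inferInstance
  have hd' : ringKrullDim R' ≤ ((d - 1 : ℕ) : ℕ) := by
    obtain ⟨d', hd'⟩ := Groth.L01.exists_dim_eq_nat (R := R')
    rw [hd', hd] at hdim
    rw [hd']
    norm_cast at hdim ⊢
    omega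
  -- points over the smaller localisations
  have hloc : ∀ (p : Ideal R) [p.IsPrime], p ≠ maximalIdeal R → ∀ (L : Localization.AtPrime p →+* K),
      L.comp (algebraMap R (Localization.AtPrime p)) = algebraMap R K →
      ∃ σ : Spec (CommRingCat.of (Localization.AtPrime p)) ⟶ G,
        σ ≫ g = Spec.map (CommRingCat.ofHom (algebraMap R (Localization.AtPrime p))) ∧
        Spec.map (CommRingCat.ofHom L) ≫ σ = η := by
    intro p _ hp L hL
    let A := Localization.AtPrime p
    haveI := Groth.Agent.S0564.result R p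
    letI := L.toAlgebra
    haveI : IsScalarTower R A K := IsScalarTower.of_algebraMap_eq' hL.symm
    haveI : IsFractionRing A K :=
      IsFractionRing.isFractionRing_of_isDomain_of_isLocalization p.primeCompl A K
    have hdA : ringKrullDim A ≤ ((d - 1 : ℕ) : ℕ) := by
      rw [IsLocalization.AtPrime.ringKrullDim_eq_height p A]
      have hlt : p < maximalIdeal R := lt_of_le_of_ne (le_maximalIdeal (Ideal.IsPrime.ne_top ‹_›)) hp
      have h := Ideal.height_strict_mono_of_isPrime hlt
      have hm : ((maximalIdeal R).height : WithBot ℕ∞) = d := by rw [maximalIdeal_height_eq_ringKrullDim, hd]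
      have hm' : (maximalIdeal R).height = d := by exact_mod_cast hm
      rw [hm'] at h
      obtain ⟨e, he⟩ := ENat.ne_top_iff_exists.1 h.ne_top
      rw [← he] at h ⊢
      have h' : e < d := by exact_mod_cast h
      exact (WithBot.coe_le_coe (α := ℕ∞)).2 (ENat.coe_le_coe.2 (show e ≤ d - 1 by omega))
    let q : Spec (CommRingCat.of A) ⟶ Spec (CommRingCat.of R) := Spec.map (CommRingCat.ofHom (algebraMap R A))
    haveI : IsProper (pullback.snd g q) := MorphismProperty.pullback_snd (P := @IsProper) _ _ inferInstance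
    obtain ⟨σ, hσ, hση⟩ := IH (d - 1) (by omega) A hdA K (pullback.snd g q) (hg.pullback q)
      (pullback.lift η (Spec.map (CommRingCat.ofHom L)) (by
        rw [hη, ← Spec.map_comp, ← CommRingCat.ofHom_comp, hL]))
      (pullback.lift_snd _ _ _)
    refine ⟨σ ≫ pullback.fst g q, by rw [Category.assoc, pullback.condition, reassoc_of% hσ], ?_⟩
    have := congrArg (· ≫ pullback.fst g q) hση
    rw [Category.assoc, pullback.lift_fst] at this
    exact this
  have hlift : ∀ (p : Ideal R) [p.IsPrime], ∃ L : Localization.AtPrime p →+* K,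
      L.comp (algebraMap R (Localization.AtPrime p)) = algebraMap R K := fun p _ =>
    ⟨IsLocalization.lift (M := p.primeCompl) (fun s => (IsFractionRing.to_map_ne_zero_of_mem_nonZeroDivisors
      (mem_nonZeroDivisors_of_ne_zero fun h => s.2 (by rw [h]; exact p.zero_mem))).isUnit),
      IsLocalization.lift_comp _⟩
  -- the point over the hypersurface
  have hPm : Ideal.span {t} ≠ maximalIdeal R := fun he => by
    have hf : IsField R' := (Ideal.Quotient.maximal_ideal_iff_isField_quotient _).1 (he ▸ inferInstance)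
    rw [ringKrullDim_eq_zero_of_isField hf, hd, zero_add] at hdim
    have : d = 1 := by exact_mod_cast hdim.symm
    omega
  obtain ⟨LP, hLP⟩ := hlift (Ideal.span {t})
  obtain ⟨σP, hσP, hσPη⟩ := hloc _ hPm LP hLP
  let K' := FractionRing R'
  let mk : R →+* R' := Ideal.Quotient.mk _
  let j : R →+* K' := (algebraMap R' K').comp mk
  have hju : ∀ (p : Ideal R) [p.IsPrime], Ideal.span {t} ≤ p → ∀ s : p.primeCompl, IsUnit (j s) := by
    intro p _ hp s
    refine (IsFractionRing.to_map_ne_zero_of_mem_nonZeroDivisors (R := R') (K := K') (x := mk s.1)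
      (mem_nonZeroDivisors_of_ne_zero fun h => ?_)).isUnit
    exact s.2 (hp (Ideal.Quotient.eq_zero_iff_mem.1 h))
  let jP : Localization.AtPrime (Ideal.span {t}) →+* K' := IsLocalization.lift (hju (Ideal.span {t}) le_rfl)
  let i : Spec (CommRingCat.of R') ⟶ Spec (CommRingCat.of R) := Spec.map (CommRingCat.ofHom mk)
  haveI : IsProper (pullback.snd g i) := MorphismProperty.pullback_snd (P := @IsProper) _ _ inferInstance
  obtain ⟨φ', hφ', hφ'η⟩ := IH (d - 1) (by omega) R' hd' K' (pullback.snd g i) (hg.pullback i)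
    (pullback.lift (Spec.map (CommRingCat.ofHom jP) ≫ σP) (Spec.map (CommRingCat.ofHom (algebraMap R' K'))) (by
      rw [Category.assoc, hσP, ← Spec.map_comp, ← Spec.map_comp, ← CommRingCat.ofHom_comp,
        ← CommRingCat.ofHom_comp, IsLocalization.lift_comp]))
    (pullback.lift_snd _ _ _)
  let φ := φ' ≫ pullback.fst g i
  have hφg : φ ≫ g = i := by rw [Category.assoc, pullback.condition, reassoc_of% hφ']
  have hφη : Spec.map (CommRingCat.ofHom (algebraMap R' K')) ≫ φ = Spec.map (CommRingCat.ofHom jP) ≫ σP := by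
    have := congrArg (· ≫ pullback.fst g i) hφ'η
    rw [Category.assoc, pullback.lift_fst] at this
    exact this
  -- an affine neighbourhood of the value at the closed point
  obtain ⟨_, ⟨U, hU, rfl⟩, haU, -⟩ :=
    G.isBasis_affineOpens.exists_subset_of_mem_open (Set.mem_univ (φ (closedPoint R'))) isOpen_univ
  replace hU : IsAffineOpen U := hU
  have hφU : ∀ p, φ p ∈ U := fun p =>
    ((IsLocalRing.specializes_closedPoint p).map φ.continuous).mem_open U.2 haU
  have key : ∀ π : R, Prime π → ∃ (q : Ideal R) (_ : q.IsPrime), π ∈ q ∧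
      ∃ (L : Localization.AtPrime q →+* K) (σ : Spec (CommRingCat.of (Localization.AtPrime q)) ⟶ G),
        L.comp (algebraMap R (Localization.AtPrime q)) = algebraMap R K ∧
        Spec.map (CommRingCat.ofHom L) ≫ σ = η ∧ ∀ z, σ z ∈ U := by
    intro π hπ
    have hle : Ideal.span {π, t} ≤ maximalIdeal R := Ideal.span_le.2 (Set.insert_subset
      ((mem_maximalIdeal _).2 hπ.not_isUnit) (Set.singleton_subset_iff.2 ht))
    obtain ⟨q, hq, hqm⟩ := Ideal.exists_minimalPrimes_le hle
    haveI := hq.1.1
    have htq : Ideal.span {t} ≤ q :=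
      (Ideal.span_mono (by simp)).trans hq.1.2
    have hne : q ≠ maximalIdeal R := by
      intro he
      have h3 := Ideal.height_le_spanRank_toENat_of_mem_minimalPrimes _ _ hq
      have h4 : (Ideal.span {π, t}).spanRank.toENat ≤ 2 := by
        have h5 : (Ideal.span {π, t}).spanRank ≤ Cardinal.mk ↑({π, t} : Set R) := Submodule.spanRank_span_le_card _
        have h6 : Cardinal.mk ↑({π, t} : Set R) ≤ 2 :=
          (Cardinal.mk_insert_le).trans (by rw [Cardinal.mk_singleton, one_add_one_eq_two])
        simpa using OrderHomClass.mono Cardinal.toENat (h5.trans h6)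
      have hm : ((maximalIdeal R).height : WithBot ℕ∞) = d := by rw [maximalIdeal_height_eq_ringKrullDim, hd]
      have hm' : (maximalIdeal R).height = d := by exact_mod_cast hm
      rw [he, hm'] at h3
      have := h3.trans h4
      norm_cast at this
      omega
    obtain ⟨L, hL⟩ := hlift q
    obtain ⟨σ, hσ, hση⟩ := hloc q hne L hL
    refine ⟨q, inferInstance, hq.1.2 (Ideal.subset_span (by simp)), L, σ, hL, hση, fun z => ?_⟩
    -- the closed point goes to a point of the affine open
    have hu : ∀ s : (Ideal.span {t}).primeCompl, IsUnit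
        (algebraMap R (Localization.AtPrime (Ideal.span {t})) s) := IsLocalization.map_units _
    let c : Localization.AtPrime q →+* Localization.AtPrime (Ideal.span {t}) :=
      IsLocalization.lift (M := q.primeCompl) (g := algebraMap R _) fun s =>
        hu ⟨s.1, fun h => s.2 (htq h)⟩
    have hc : Spec.map (CommRingCat.ofHom c) ≫ σ = σP := by
      refine ext_frac LP ?_ g ?_ ?_
      · letI := LP.toAlgebra
        haveI : IsScalarTower R (Localization.AtPrime (Ideal.span {t})) K := IsScalarTower.of_algebraMap_eq' hLP.symm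
        haveI : IsFractionRing (Localization.AtPrime (Ideal.span {t})) K :=
          IsFractionRing.isFractionRing_of_isDomain_of_isLocalization (Ideal.span {t}).primeCompl _ K
        exact IsFractionRing.injective (Localization.AtPrime (Ideal.span {t})) K
      · rw [Category.assoc, hσ, hσP, ← Spec.map_comp, ← CommRingCat.ofHom_comp, IsLocalization.lift_comp]
      · rw [← Spec.map_comp_assoc, hσPη, ← hση, ← CommRingCat.ofHom_comp]
        congr 2
        congr 1
        refine IsLocalization.ringHom_ext q.primeCompl ?_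
        rw [RingHom.comp_assoc, IsLocalization.lift_comp, hL, hLP]
    let q' : Ideal R' := q.map mk
    have hq'c : q'.comap mk = q := by
      rw [Ideal.comap_map_of_surjective _ Ideal.Quotient.mk_surjective, ← RingHom.ker_eq_comap_bot, Ideal.mk_ker,
        sup_eq_left.2 htq]
    haveI : q'.IsPrime := Ideal.map_isPrime_of_surjective Ideal.Quotient.mk_surjective
      (by rw [Ideal.mk_ker]; exact htq)
    let Aq := Localization.AtPrime q'
    let l : Localization.AtPrime q →+* Aq := Localization.localRingHom q q' mk hq'c.symm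
    let jq : Aq →+* K' := IsLocalization.lift (M := q'.primeCompl) (g := algebraMap R' K') fun s =>
      (IsFractionRing.to_map_ne_zero_of_mem_nonZeroDivisors
        (mem_nonZeroDivisors_of_ne_zero fun h => s.2 (by rw [h]; exact q'.zero_mem))).isUnit
    have hagree : Spec.map (CommRingCat.ofHom l) ≫ σ = Spec.map (CommRingCat.ofHom (algebraMap R' Aq)) ≫ φ := by
      haveI : IsDomain Aq := IsLocalization.isDomain_localization q'.primeCompl_le_nonZeroDivisors
      refine ext_frac jq ?_ g ?_ ?_
      · letI := jq.toAlgebra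
        haveI : IsScalarTower R' Aq K' := IsScalarTower.of_algebraMap_eq' (IsLocalization.lift_comp _).symm
        haveI : IsFractionRing Aq K' := IsFractionRing.isFractionRing_of_isDomain_of_isLocalization q'.primeCompl _ K'
        exact IsFractionRing.injective Aq K'
      · rw [Category.assoc, Category.assoc, hσ, hφg, ← Spec.map_comp, ← Spec.map_comp]
        congr 1
        ext a
        exact Localization.localRingHom_to_map q q' mk hq'c.symm a
      · conv_rhs => rw [← Spec.map_comp_assoc, ← CommRingCat.ofHom_comp, IsLocalization.lift_comp]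
        rw [hφη, ← hc, ← Spec.map_comp_assoc, ← Spec.map_comp_assoc, ← CommRingCat.ofHom_comp,
          ← CommRingCat.ofHom_comp]
        congr 2
        congr 1
        refine IsLocalization.ringHom_ext q.primeCompl (RingHom.ext fun a => ?_)
        show jq (Localization.localRingHom q q' mk _ (algebraMap R _ a)) =
          jP (IsLocalization.lift _ (algebraMap R (Localization.AtPrime q) a))
        erw [Localization.localRingHom_to_map, IsLocalization.lift_eq, IsLocalization.lift_eq,
          IsLocalization.lift_eq]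
        rfl
    haveI : IsLocalHom l := Localization.isLocalHom_localRingHom _ _ _ _
    have hclosed : σ (closedPoint (Localization.AtPrime q)) ∈ U := by
      have h1 : Spec.map (CommRingCat.ofHom l) (closedPoint Aq) = closedPoint (Localization.AtPrime q) :=
        IsLocalRing.comap_closedPoint l
      rw [← h1, ← Scheme.Hom.comp_apply, hagree]
      exact hφU _
    exact ((IsLocalRing.specializes_closedPoint z).map σ.continuous).mem_open U.2 hclosed
  have hηU : Set.range η ⊆ Set.range hU.fromSpec := by
    rw [hU.range_fromSpec]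
    obtain ⟨q, _, -, L, σ, -, hση, hσU⟩ := key t (Ideal.span_singleton_prime
      (Groth.L01.ne_zero_of_notMem_sq ht2) |>.1 hP)
    rintro _ ⟨p, rfl⟩
    rw [← hση]
    exact hσU _
  obtain ⟨β, hβ⟩ : ∃ β : Γ(G, U) ⟶ CommRingCat.of K, Spec.map β ≫ hU.fromSpec = η :=
    ⟨Spec.preimage (IsOpenImmersion.lift hU.fromSpec η hηU), by rw [Spec.map_preimage, IsOpenImmersion.lift_fac]⟩
  have hmem : ∀ x, ∃ a : R, algebraMap R K a = β.hom x := fun x => by
    refine mem_of_forall_prime _ fun π hπ => ?_
    obtain ⟨q, _, hπq, L, σ, hL, hση, hσU⟩ := key π hπ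
    obtain ⟨α, hα⟩ : ∃ α : Γ(G, U) ⟶ CommRingCat.of (Localization.AtPrime q), Spec.map α ≫ hU.fromSpec = σ :=
      ⟨Spec.preimage (IsOpenImmersion.lift hU.fromSpec σ (by
        rw [hU.range_fromSpec]; rintro _ ⟨z, rfl⟩; exact hσU z)), by rw [Spec.map_preimage, IsOpenImmersion.lift_fac]⟩
    have hαβ : α ≫ CommRingCat.ofHom L = β := by
      apply Spec.map_injective
      rw [← cancel_mono hU.fromSpec, Spec.map_comp, Category.assoc, hα, hση, hβ]
    obtain ⟨⟨a, s⟩, hs⟩ := IsLocalization.surj q.primeCompl (α.hom x)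
    refine ⟨a, s, fun hdvd => s.2 (q.mem_of_dvd hdvd hπq), ?_⟩
    rw [← hαβ, ← hL]
    show L (α.hom x) * L (algebraMap R _ s) = L (algebraMap R _ a)
    rw [← map_mul, hs]
  choose γ hγ using hmem
  have hinj := IsFractionRing.injective R K
  let γh : Γ(G, U) ⟶ CommRingCat.of R := CommRingCat.ofHom
    { toFun := γ
      map_one' := hinj ((hγ 1).trans (β.hom.map_one.trans (map_one _).symm))
      map_mul' := fun a b => hinj ((hγ _).trans ((β.hom.map_mul a b).trans
        ((congrArg₂ (· * ·) (hγ a).symm (hγ b).symm).trans (map_mul _ _ _).symm)))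
      map_zero' := hinj ((hγ 0).trans (β.hom.map_zero.trans (map_zero _).symm))
      map_add' := fun a b => hinj ((hγ _).trans ((β.hom.map_add a b).trans
        ((congrArg₂ (· + ·) (hγ a).symm (hγ b).symm).trans (map_add _ _ _).symm))) }
  have hγh : γh ≫ CommRingCat.ofHom (algebraMap R K) = β := by ext x; exact hγ x
  have hgen : Spec.map (CommRingCat.ofHom (algebraMap R K)) ≫ Spec.map γh ≫ hU.fromSpec = η := by
    rw [← Spec.map_comp_assoc, hγh, hβ]
  refine ⟨Spec.map γh ≫ hU.fromSpec, ?_, hgen⟩
  haveI := isDominant_specMap (algebraMap R K) hinj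
  refine ext_of_isDominant (Spec.map (CommRingCat.ofHom (algebraMap R K))) ?_
  rw [← Category.assoc, hgen, hη, Category.comp_id]

end Groth.L18.RatPoint
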