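import Groth.Agent.L18.RatPoint.Extend
import Groth.Agent.L26.Weil.AffineConst
import Groth.Agent.L26.Weil.Generic
import Mathlib.CategoryTheory.Monoidal.Cartesian.Over
import Mathlib.RingTheory.MvPolynomial.Basic

/-!
Proper group schemes have no rational curves.
-/

set_option autoImplicit false
set_option linter.style.haveILetI false
set_option backward.isDefEq.respectTransparency.types false

universe u

open CategoryTheory CategoryTheory.Limits MonoidalCategory CartesianMonoidalCategory AlgebraicGeometry MonObj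

noncomputable section

namespace Groth.L18.RatPoint

theorem noRat_group {G T : Scheme.{u}} (g : G ⟶ T) [IsProper g] [GrpObj (Over.mk g)] : NoRat g := by
  intro K _ b m hm
  let R := Polynomial K
  let gen' : Spec (CommRingCat.of (FractionRing R)) ⟶ Spec (CommRingCat.of R) :=
    Spec.map (CommRingCat.ofHom (algebraMap R (FractionRing R)))
  let p : Spec (CommRingCat.of R) ⟶ Spec (CommRingCat.of K) :=
    Spec.map (CommRingCat.ofHom (Polynomial.C : K →+* R))
  let eF : FractionRing R ≃ₐ[R] RatFunc K := IsLocalization.algEquiv (nonZeroDivisors R) _ _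
  let ψ : Spec (CommRingCat.of (FractionRing R)) ⟶ Spec (CommRingCat.of (RatFunc K)) :=
    Spec.map (CommRingCat.ofHom eF.symm.toRingEquiv.toRingHom)
  have hψ : ψ ≫ ratProj K = gen' ≫ p := by
    rw [← Spec.map_comp, ← Spec.map_comp]
    congr 1
    ext c
    show eF.symm (algebraMap K (RatFunc K) c) = algebraMap R (FractionRing R) (Polynomial.C c)
    rw [← eF.symm.commutes (Polynomial.C c)]
    rfl
  -- extend to the affine line
  haveI : IsProper (pullback.snd g (p ≫ b)) := MorphismProperty.pullback_snd (P := @IsProper) _ _ inferInstance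
  letI : GrpObj (Over.mk (pullback.snd g (p ≫ b))) := Over.grpObjMkPullbackSnd
  obtain ⟨s, ⟨hs1, hs2⟩, -⟩ := Groth.L26.Weil.existsUnique_of_generic (R := R) (𝟙 (Spec (CommRingCat.of R)))
    (pullback.snd g (p ≫ b))
    (pullback.snd (𝟙 _) gen' ≫ pullback.lift (ψ ≫ m) gen' (by rw [Category.assoc, hm, reassoc_of% hψ]))
    (by rw [Category.assoc, pullback.lift_snd, pullback.condition])
  -- the constant value
  let GK := Over.mk (pullback.snd g b)
  haveI : IsProper GK.hom := MorphismProperty.pullback_snd (P := @IsProper) g b inferInstance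
  letI : GrpObj GK := Over.grpObjMkPullbackSnd
  let s' : Spec (CommRingCat.of R) ⟶ pullback g b := pullback.lift (s ≫ pullback.fst g (p ≫ b)) p
    (by rw [Category.assoc, pullback.condition, reassoc_of% hs1])
  let n := PUnit.{u + 1}
  let h : 𝔸(n; Spec (CommRingCat.of K)) ⟶ Spec (CommRingCat.of R) :=
    (AffineSpace.SpecIso n (CommRingCat.of K)).hom ≫
      Spec.map (CommRingCat.ofHom (MvPolynomial.pUnitAlgEquiv.{u, u} K).symm.toRingEquiv.toRingHom)
  haveI : IsIso h := by
    haveI : IsIso (CommRingCat.ofHom (MvPolynomial.pUnitAlgEquiv.{u, u} K).symm.toRingEquiv.toRingHom) :=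
      (ConcreteCategory.isIso_iff_bijective _).2 (MvPolynomial.pUnitAlgEquiv.{u, u} K).symm.bijective
    infer_instance
  have hh : h ≫ p = 𝔸(n; Spec (CommRingCat.of K)) ↘ Spec (CommRingCat.of K) := by
    rw [← cancel_epi (AffineSpace.SpecIso n (CommRingCat.of K)).inv, AffineSpace.SpecIso_inv_over,
      Category.assoc, Iso.inv_hom_id_assoc, ← Spec.map_comp]
    congr 1
    refine CommRingCat.hom_ext (RingHom.ext fun c => ?_)
    exact (MvPolynomial.pUnitAlgEquiv.{u, u} K).symm.commutes c
  let g₀ : Groth.L26.Weil.aff K n ⟶ GK := Over.homMk (h ≫ s') (by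
    show (h ≫ s') ≫ pullback.snd g b = _
    rw [Category.assoc, pullback.lift_snd]
    exact hh)
  have hc := congrArg (fun φ : Groth.L26.Weil.aff K n ⟶ GK => φ.left) (Groth.L26.Weil.affineSpace_const g₀)
  simp only [Over.comp_left, Over.toUnit_left] at hc
  let a' := (Groth.L26.Weil.affPt (fun _ : n => 0) : _ ⟶ Groth.L26.Weil.aff K n).left ≫ g₀.left
  have hs' : s' = p ≫ a' := by
    rw [← cancel_epi h, reassoc_of% hh]
    exact hc
  refine ⟨a' ≫ pullback.fst g b, ?_⟩
  let d : Spec (CommRingCat.of (FractionRing R)) ⟶ pullback (𝟙 (Spec (CommRingCat.of R))) gen' :=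
    pullback.lift gen' (𝟙 _) (by rw [Category.comp_id, Category.id_comp])
  have hd1 : d ≫ pullback.fst _ _ = gen' := pullback.lift_fst _ _ _
  have hd2 : d ≫ pullback.snd _ _ = 𝟙 _ := pullback.lift_snd _ _ _
  have h2 : gen' ≫ s ≫ pullback.fst g (p ≫ b) = ψ ≫ m := by
    calc gen' ≫ s ≫ pullback.fst g (p ≫ b)
        = d ≫ (pullback.fst (𝟙 (Spec (CommRingCat.of R))) gen' ≫ s) ≫ pullback.fst g (p ≫ b) := by
          rw [Category.assoc, reassoc_of% hd1]
      _ = ψ ≫ m := by rw [hs2, Category.assoc, pullback.lift_fst, reassoc_of% hd2]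
  haveI : IsIso (CommRingCat.ofHom eF.symm.toRingEquiv.toRingHom) :=
    (ConcreteCategory.isIso_iff_bijective _).2 eF.symm.bijective
  rw [← cancel_epi ψ, reassoc_of% hψ, ← h2]
  have h3 : s ≫ pullback.fst g (p ≫ b) = s' ≫ pullback.fst g b := (pullback.lift_fst _ _ _).symm
  rw [h3, hs', Category.assoc]

end Groth.L18.RatPoint
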