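import Groth.Agent.L18.RatPoint.Group

/-!
Rational maps from regular schemes into proper schemes without rational curves are morphisms.
-/

set_option autoImplicit false
set_option linter.style.haveILetI false
set_option linter.unusedSectionVars false
set_option backward.isDefEq.respectTransparency.types false

universe u

open CategoryTheory CategoryTheory.Limits AlgebraicGeometry TopologicalSpace Groth.L18.Codim1

noncomputable section

namespace Groth.L18.RatPoint

variable {X Y : Scheme.{u}} [IsLocallyNoetherian Y] [IsReduced Y]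

/-- A rational section of a proper morphism without rational curves is defined at every regular point. -/
theorem exists_extension_at (f : X ⟶ Y) [IsProper f] (hf : NoRat f) (V : Y.Opens) (hV : Dense (V : Set Y))
    (s : (V : Scheme.{u}) ⟶ X) (hs : s ≫ f = V.ι) (y : Y) [IsRegularLocalRing (Y.presheaf.stalk y)] :
    ∃ (W : Y.Opens) (h : (W : Scheme.{u}) ⟶ X), y ∈ W ∧ h ≫ f = W.ι ∧
      Y.homOfLE (inf_le_left : W ⊓ V ≤ W) ≫ h = Y.homOfLE (inf_le_right : W ⊓ V ≤ V) ≫ s := by
  haveI : IsDomain (Y.presheaf.stalk y) := Groth.L01.isDomain_of_regular _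
  let O := Y.presheaf.stalk y
  let K := FractionRing O
  let ι : Spec (CommRingCat.of K) ⟶ Spec O := Spec.map (CommRingCat.ofHom (algebraMap O K))
  have hι : ∀ t, (ι ≫ Y.fromSpecStalk y) t = eta Y y := fun t => by
    rw [Scheme.Hom.comp_apply]
    congr 1
    apply PrimeSpectrum.ext
    change Ideal.comap (algebraMap O K) t.asIdeal = ⊥
    rw [(Ideal.eq_bot_or_top t.asIdeal).resolve_right t.isPrime.ne_top]
    exact (RingHom.injective_iff_ker_eq_bot _).mp (IsFractionRing.injective _ K)
  have hηV := eta_mem_of_dense y hV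
  let eV : Spec (CommRingCat.of K) ⟶ V := IsOpenImmersion.lift V.ι (ι ≫ Y.fromSpecStalk y) (by
    rw [Scheme.Opens.range_ι]
    rintro _ ⟨t, rfl⟩
    rw [hι]
    exact hηV)
  have heV : eV ≫ V.ι = ι ≫ Y.fromSpecStalk y := IsOpenImmersion.lift_fac _ _ _
  -- the extension over the local ring
  obtain ⟨d, hd⟩ := Groth.L01.exists_dim_eq_nat (R := O)
  haveI : IsProper (pullback.snd f (Y.fromSpecStalk y)) :=
    MorphismProperty.pullback_snd (P := @IsProper) _ _ inferInstance
  obtain ⟨σ, hσ, hσι⟩ := exists_extension d O hd.le K (pullback.snd f (Y.fromSpecStalk y)) (hf.pullback _)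
    (pullback.lift (eV ≫ s) ι (by rw [Category.assoc, hs, heV])) (pullback.lift_snd _ _ _)
  let φ : Spec O ⟶ X := σ ≫ pullback.fst f (Y.fromSpecStalk y)
  have hφ : φ ≫ f = Y.fromSpecStalk y ≫ 𝟙 Y := by
    rw [Category.assoc, pullback.condition, Category.comp_id, ← Category.assoc]
    exact (congrArg (· ≫ Y.fromSpecStalk y) hσ).trans (Category.id_comp _)
  have hφm : ι ≫ φ = eV ≫ s := by
    have := congrArg (· ≫ pullback.fst f (Y.fromSpecStalk y)) hσι
    rw [Category.assoc, pullback.lift_fst] at this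
    exact this
  -- spreading out
  obtain ⟨W₀, hxW₀, h₀, hh₀, hh₀f⟩ := spread_out_of_isGermInjective' (𝟙 Y) f φ hφ
  rw [Category.comp_id] at hh₀f
  obtain ⟨N, hyN, hN⟩ := exists_nhds_subset_closure y
  let W : Y.Opens := W₀ ⊓ N
  refine ⟨W, Y.homOfLE inf_le_left ≫ h₀, ⟨hxW₀, hyN⟩, by rw [Category.assoc, hh₀f, Scheme.homOfLE_ι], ?_⟩
  have hηW : eta Y y ∈ W := (eta_specializes_of_specializes (specializes_refl y)).mem_open W.2 ⟨hxW₀, hyN⟩
  let e : Spec (CommRingCat.of K) ⟶ (W ⊓ V : Y.Opens) :=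
    IsOpenImmersion.lift (W ⊓ V).ι (ι ≫ Y.fromSpecStalk y) (by
      rw [Scheme.Opens.range_ι]
      rintro _ ⟨t, rfl⟩
      rw [hι]
      exact ⟨hηW, hηV⟩)
  have he : e ≫ (W ⊓ V).ι = ι ≫ Y.fromSpecStalk y := IsOpenImmersion.lift_fac _ _ _
  haveI : IsDominant e := by
    refine ⟨fun z => ?_⟩
    refine closure_mono (Set.singleton_subset_iff.mpr
      (Set.mem_range_self (IsLocalRing.closedPoint K))) (specializes_iff_mem_closure.mp ?_)
    rw [← (W ⊓ V).ι.isOpenEmbedding.isInducing.specializes_iff, ← Scheme.Hom.comp_apply, he, hι]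
    exact hN _ z.2.1.2
  refine ext_of_isDominant_of_isSeparated f ?_ e ?_
  · simp only [Category.assoc, hh₀f, hs, Scheme.homOfLE_ι]
  · have hA : e ≫ Y.homOfLE (inf_le_right : W ⊓ V ≤ V) = eV := by
      rw [← cancel_mono V.ι, Category.assoc, Scheme.homOfLE_ι, he, heV]
    have hB : e ≫ Y.homOfLE (inf_le_left : W ⊓ V ≤ W) ≫ Y.homOfLE (inf_le_left : W ≤ W₀) =
        ι ≫ W₀.fromSpecStalkOfMem y hxW₀ := by
      rw [← cancel_mono W₀.ι]
      simp only [Category.assoc, Scheme.homOfLE_ι, he, Scheme.Opens.fromSpecStalkOfMem_ι]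
    simp only [← Category.assoc] at hB ⊢
    rw [hB, hA, Category.assoc, ← hh₀, hφm]

end Groth.L18.RatPoint
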