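import Groth.Agent.L18.RatPoint.Extend
import Mathlib.RingTheory.Jacobson.Ring
import Mathlib.FieldTheory.IsAlgClosed.Basic

/-!
Rational curves over extension fields specialise to rational curves over an algebraically closed field.
-/

set_option autoImplicit false
set_option linter.style.haveILetI false

universe u

open Polynomial

noncomputable section

namespace Groth.L18.RatPoint

variable {k K B : Type u} [Field k] [IsAlgClosed k] [Field K] [Algebra k K] [CommRing B] [Algebra k B]
  [Algebra.FiniteType k B]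

/-- A nonconstant point with values in `K(T)` specialises to a nonconstant point with values in `k(T)`. -/
theorem exists_nonconstant_point (φ : B →ₐ[k] RatFunc K)
    (h : ∃ b, φ b ∉ (algebraMap K (RatFunc K)).range) :
    ∃ ψ : B →ₐ[k] RatFunc k, ∃ b, ψ b ∉ (algebraMap k (RatFunc k)).range := by
  classical
  obtain ⟨s, hs⟩ := Algebra.FiniteType.out (R := k) (A := B)
  obtain ⟨b₀, hb₀s, hb₀⟩ : ∃ b ∈ s, φ b ∉ (algebraMap K (RatFunc K)).range := by
    by_contra hne
    push Not at hne
    obtain ⟨b, hb⟩ := h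
    have hle : (⊤ : Subalgebra k B) ≤
        (((IsScalarTower.toAlgHom k K (RatFunc K)).range).comap φ) := by
      rw [← hs]
      exact Algebra.adjoin_le fun x hx => hne x hx
    exact hb (hle trivial)
  obtain ⟨⟨Q, hQ⟩, hint⟩ := IsLocalization.exist_integer_multiples_of_finset (nonZeroDivisors K[X]) (s.image φ)
  have hP : ∀ b ∈ s, ∃ P : K[X], algebraMap K[X] (RatFunc K) P = algebraMap K[X] (RatFunc K) Q * φ b := by
    intro b hb
    obtain ⟨P, hP⟩ := hint (φ b) (Finset.mem_image_of_mem φ hb)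
    exact ⟨P, hP.trans (Algebra.smul_def _ _)⟩
  choose! P hP using hP
  have hQ0 : Q ≠ 0 := nonZeroDivisors.ne_zero hQ
  -- the coefficient algebra
  let c : Finset K := s.biUnion (fun b => (P b).coeffs) ∪ Q.coeffs
  let A : Subalgebra k K := Algebra.adjoin k (c : Set K)
  haveI : Algebra.FiniteType k A := ⟨(Subalgebra.fg_top _).2 ⟨c, rfl⟩⟩
  have hlift : ∀ p : K[X], p.coeffs ⊆ c → ∃ p' : A[X], p'.map (algebraMap A K) = p := fun p hp => by
    refine (Polynomial.mem_lifts p).1 ((Polynomial.lifts_iff_coeff_lifts p).2 fun n => ?_)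
    by_cases hn : p.coeff n = 0
    · exact ⟨0, by rw [map_zero, hn]⟩
    · exact ⟨⟨_, Algebra.subset_adjoin (hp (Polynomial.coeff_mem_coeffs hn))⟩, rfl⟩
  obtain ⟨Q', hQ'⟩ := hlift Q Finset.subset_union_right
  have hP' : ∀ b ∈ s, ∃ P' : A[X], P'.map (algebraMap A K) = P b := fun b hb =>
    hlift _ ((Finset.subset_biUnion_of_mem (fun b => (P b).coeffs) hb).trans Finset.subset_union_left)
  choose! P' hP' using hP'
  have hQ'0 : Q' ≠ 0 := fun h0 => hQ0 (by rw [← hQ', h0, Polynomial.map_zero])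
  -- a coefficient minor witnessing nonconstancy
  obtain ⟨m, hm⟩ : ∃ m, Q'.coeff m ≠ 0 := by
    by_contra hne
    push Not at hne
    exact hQ'0 (Polynomial.ext fun n => by rw [hne n, Polynomial.coeff_zero])
  obtain ⟨n, hn⟩ : ∃ n, (P' b₀).coeff n * Q'.coeff m - (P' b₀).coeff m * Q'.coeff n ≠ 0 := by
    by_contra hne
    push Not at hne
    refine hb₀ ⟨(P b₀).coeff m / Q.coeff m, ?_⟩
    have hQm : Q.coeff m ≠ 0 := by
      rw [← hQ', Polynomial.coeff_map]
      exact fun h0 => hm (Subtype.ext h0)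
    have hPQ : P b₀ = Polynomial.C ((P b₀).coeff m / Q.coeff m) * Q := by
      ext n
      rw [Polynomial.coeff_C_mul, div_mul_eq_mul_div, eq_div_iff hQm, ← hQ', ← hP' b₀ hb₀s]
      simp only [Polynomial.coeff_map, ← map_mul]
      exact congrArg _ (sub_eq_zero.1 (hne n))
    have h1 := hP b₀ hb₀s
    rw [hPQ, map_mul, mul_comm] at h1
    have h2 := mul_left_cancel₀ (IsFractionRing.to_map_ne_zero_of_mem_nonZeroDivisors hQ) h1
    rw [← h2]
    exact IsScalarTower.algebraMap_apply K K[X] (RatFunc K) _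
  set D := ((P' b₀).coeff n * Q'.coeff m - (P' b₀).coeff m * Q'.coeff n) * Q'.coeff m
  have hD : D ≠ 0 := mul_ne_zero hn hm
  -- a rational point of the coefficient algebra
  obtain ⟨mA, hmA, hDm⟩ : ∃ mA : Ideal A, mA.IsMaximal ∧ D ∉ mA := by
    haveI : IsJacobsonRing A := isJacobsonRing_of_finiteType (A := k)
    have hj : (⊥ : Ideal A).jacobson = ⊥ := IsJacobsonRing.out' (R := A) ⊥ Ideal.bot_prime.isRadical
    by_contra hne
    push Not at hne
    refine hD (Ideal.mem_bot.1 ?_)
    rw [← hj, Ideal.jacobson, Submodule.mem_sInf]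
    exact fun J hJ => hne J hJ.2
  letI := Ideal.Quotient.field mA
  haveI : Module.Finite k (A ⧸ mA) := finite_of_finite_type_of_isJacobsonRing k (A ⧸ mA)
  let e : k ≃ₐ[k] (A ⧸ mA) := AlgEquiv.ofBijective (Algebra.ofId k _)
    (IsAlgClosed.algebraMap_bijective_of_isIntegral (k := k) (K := A ⧸ mA))
  let χ : A →ₐ[k] k := e.symm.toAlgHom.comp (Ideal.Quotient.mkₐ k mA)
  have hχ : ∀ a, χ a = 0 → a ∈ mA := fun a ha => by
    have : Ideal.Quotient.mkₐ k mA a = 0 := by
      have := congrArg e ha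
      simpa [χ] using this
    exact Ideal.Quotient.eq_zero_iff_mem.1 this
  -- specialisation
  let ρ₀ : A[X] →ₐ[k] RatFunc k :=
    (IsScalarTower.toAlgHom k k[X] (RatFunc k)).comp (Polynomial.mapAlgHom χ)
  have hρQ : Polynomial.map χ.toRingHom Q' ≠ 0 := fun h0 => hDm (mA.mul_mem_left _ (hχ _ (by
    have := congrArg (fun p : k[X] => p.coeff m) h0
    rwa [Polynomial.coeff_map, Polynomial.coeff_zero] at this)))
  let L := Localization.Away Q'
  have hρu : IsUnit (ρ₀.toRingHom Q') := by
    rw [isUnit_iff_ne_zero]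
    exact fun h0 => hρQ ((map_eq_zero_iff _ (IsFractionRing.injective k[X] (RatFunc k))).1 h0)
  let ρ : L →ₐ[k] RatFunc k :=
    { IsLocalization.Away.lift Q' (g := ρ₀.toRingHom) hρu with
      commutes' := fun a => by
        show IsLocalization.Away.lift Q' hρu (algebraMap k L a) = _
        rw [IsScalarTower.algebraMap_apply k A[X] L, IsLocalization.Away.lift_eq]
        exact ρ₀.commutes a }
  let ι₀ : A[X] →ₐ[k] RatFunc K :=
    (IsScalarTower.toAlgHom k K[X] (RatFunc K)).comp (Polynomial.mapAlgHom (IsScalarTower.toAlgHom k A K))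
  have hι₀ : Function.Injective ι₀ := (IsFractionRing.injective K[X] (RatFunc K)).comp
    (Polynomial.map_injective _ Subtype.val_injective)
  have hι₀Q : ι₀ Q' = algebraMap K[X] (RatFunc K) Q := congrArg (algebraMap K[X] (RatFunc K)) hQ'
  have hιu : IsUnit (ι₀.toRingHom Q') := by
    rw [isUnit_iff_ne_zero]
    exact fun h0 => hQ'0 (hι₀ (h0.trans (map_zero ι₀).symm))
  let ι : L →ₐ[k] RatFunc K :=
    { IsLocalization.Away.lift Q' (g := ι₀.toRingHom) hιu with
      commutes' := fun a => by
        show IsLocalization.Away.lift Q' hιu (algebraMap k L a) = _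
        rw [IsScalarTower.algebraMap_apply k A[X] L, IsLocalization.Away.lift_eq]
        exact ι₀.commutes a }
  have hιeq : ∀ a, ι (algebraMap A[X] L a) = ι₀ a := fun a => IsLocalization.Away.lift_eq Q' hιu a
  have hρeq : ∀ a, ρ (algebraMap A[X] L a) = ρ₀ a := fun a => IsLocalization.Away.lift_eq Q' hρu a
  have hιinj : Function.Injective ι := by
    refine (IsLocalization.lift_injective_iff (M := Submonoid.powers Q') _).2 fun x y => ⟨fun hxy => ?_, fun hxy => ?_⟩
    · exact (hιeq x).symm.trans ((congrArg ι hxy).trans (hιeq y))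
    · exact congrArg _ (hι₀ hxy)
  have himg : ∀ b ∈ s, ι (algebraMap A[X] L (P' b) * IsLocalization.Away.invSelf Q') = φ b := by
    intro b hb
    have h1 : ι (algebraMap A[X] L Q' * IsLocalization.Away.invSelf Q') = 1 := by
      rw [IsLocalization.Away.mul_invSelf, map_one]
    rw [map_mul] at h1
    have hQ1 : ι (algebraMap A[X] L Q') = algebraMap K[X] (RatFunc K) Q :=
      (hιeq _).trans hι₀Q
    have hP1 : ι (algebraMap A[X] L (P' b)) = algebraMap K[X] (RatFunc K) Q * φ b :=
      (hιeq _).trans ((congrArg (algebraMap K[X] (RatFunc K)) (hP' b hb)).trans (hP b hb))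
    rw [map_mul, hP1, ← hQ1, mul_right_comm, h1, one_mul]
  have hrange : φ.range ≤ ι.range := by
    rw [← Algebra.map_top, ← hs, AlgHom.map_adjoin]
    refine Algebra.adjoin_le ?_
    rintro _ ⟨b, hb, rfl⟩
    exact ⟨_, himg b hb⟩
  let ι' : B →ₐ[k] L := ((AlgEquiv.ofInjective ι hιinj).symm.toAlgHom.comp (Subalgebra.inclusion hrange)).comp φ.rangeRestrict
  have hι' : ∀ b, ι (ι' b) = φ b := fun b =>
    congrArg Subtype.val ((AlgEquiv.ofInjective ι hιinj).apply_symm_apply (Subalgebra.inclusion hrange (φ.rangeRestrict b)))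
  refine ⟨ρ.comp ι', b₀, fun ⟨a, ha⟩ => hDm ?_⟩
  have hb : ι' b₀ = algebraMap A[X] L (P' b₀) * IsLocalization.Away.invSelf Q' :=
    hιinj ((hι' b₀).trans (himg b₀ hb₀s).symm)
  have h1 : ρ (algebraMap A[X] L Q') * ρ (ι' b₀) = ρ (algebraMap A[X] L (P' b₀)) := by
    rw [hb, ← map_mul, mul_left_comm, IsLocalization.Away.mul_invSelf, mul_one]
  rw [show ρ (ι' b₀) = algebraMap k (RatFunc k) a from ha.symm] at h1
  have h2 : Polynomial.map χ.toRingHom (P' b₀) = Polynomial.map χ.toRingHom Q' * Polynomial.C a := by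
    refine IsFractionRing.injective k[X] (RatFunc k) ?_
    rw [map_mul]
    refine ((hρeq _).symm.trans (h1.symm.trans ?_))
    congr 1
    exact hρeq _
  have hc : ∀ i, χ ((P' b₀).coeff i) = χ (Q'.coeff i) * a := fun i => by
    have := congrArg (fun p : k[X] => p.coeff i) h2
    simpa [Polynomial.coeff_map, Polynomial.coeff_mul_C] using this
  exact hχ D (by simp only [D, map_mul, map_sub, hc]; ring)

end Groth.L18.RatPoint
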