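import Mathlib.RingTheory.Valuation.ValuationRing
import Mathlib.RingTheory.LocalRing.ResidueField.Basic
import Mathlib.RingTheory.Noetherian.Basic
import Mathlib.FieldTheory.AlgebraicClosure
import Mathlib.Algebra.Polynomial.Lifts
import Mathlib.RingTheory.Polynomial.Basic
import Mathlib.FieldTheory.IntermediateField.Adjoin.Basic
import Mathlib.Algebra.Polynomial.Div

/-!
Quadratic transforms: a Noetherian valuation ring dominating, birationally, a local ring whose maximal
ideal has two generators has a residue field generated by one element over the algebraic elements.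
-/

set_option autoImplicit false
set_option linter.style.haveILetI false

universe u v

open Polynomial IsLocalRing

noncomputable section

namespace Groth.L18.RatPoint

variable (k : Type u) [Field k] {O : Type v} [CommRing O] [IsDomain O] [IsLocalRing O]
  [Algebra k (ResidueField O)]

/-- The residue field is generated by one transcendental element over the algebraic ones. -/
def OneGen (O : Type v) [CommRing O] [IsLocalRing O] [Algebra k (ResidueField O)] : Prop :=
  ∃ τ : ResidueField O, Transcendental k τ ∧
    IntermediateField.adjoin (algebraicClosure k (ResidueField O)) {τ} = ⊤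

/-- A subring of `O` with algebraic residues and centre generated by two elements. -/
structure Model (S : Subring O) : Prop where
  alg : ∀ s ∈ S, IsAlgebraic k (residue O s)
  base : ∀ c : k, ∃ s ∈ S, residue O s = algebraMap k (ResidueField O) c
  gens : ∃ x ∈ S, ∃ y ∈ S, residue O x = 0 ∧ residue O y = 0 ∧
    ∀ s ∈ S, residue O s = 0 → ∃ a ∈ S, ∃ b ∈ S, s = a * x + b * y

variable {k}

theorem span_lt {x b b' : O} (hx : residue O x = 0) (hb : b ≠ 0) (h : b = b' * x) :
    Ideal.span {b} < Ideal.span {b'} := by
  refine lt_of_le_of_ne (Ideal.span_singleton_le_span_singleton.2 ⟨x, h⟩) fun he => ?_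
  obtain ⟨u, hu⟩ := Ideal.span_singleton_le_span_singleton.1 he.ge
  have h1 : u * x = 1 := by
    refine mul_left_cancel₀ hb ?_
    rw [mul_one, ← mul_assoc, ← hu, ← h]
  have := congrArg (residue O) h1
  rw [map_mul, hx, mul_zero, map_one] at this
  exact zero_ne_one this

theorem residue_ratio {f a b : O} (h : f * b = a) (hb : residue O b ≠ 0) :
    residue O f = residue O a / residue O b :=
  (eq_div_iff hb).2 (by rw [← map_mul, h])

variable [IsNoetherianRing O]

/-- Principal centre: all residues lie in any subfield containing the residues of the subring. -/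
theorem residue_mem_of_principal (S : Subring O) {x : O} (hx : residue O x = 0)
    (hgen : ∀ s ∈ S, residue O s = 0 → ∃ a ∈ S, s = a * x)
    {L : IntermediateField k (ResidueField O)} (hL : ∀ s ∈ S, residue O s ∈ L)
    (hfrac : ∀ f : O, ∃ a ∈ S, ∃ b ∈ S, b ≠ 0 ∧ f * b = a) (f : O) : residue O f ∈ L := by
  obtain ⟨a, ha, b, hb, hb0, hab⟩ := hfrac f
  suffices ∀ I : Ideal O, ∀ a ∈ S, ∀ b ∈ S, b ≠ 0 → f * b = a → Ideal.span {b} = I → residue O f ∈ L from
    this _ a ha b hb hb0 hab rfl
  intro I
  induction I using WellFoundedGT.induction with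
  | ind I IH =>
    intro a ha b hb hb0 hab hI
    by_cases hbr : residue O b = 0
    · obtain ⟨b', hb', hbe⟩ := hgen b hb hbr
      obtain ⟨a', ha', hae⟩ := hgen a ha (by rw [← hab, map_mul, hbr, mul_zero])
      have hx0 : x ≠ 0 := fun h => hb0 (by rw [hbe, h, mul_zero])
      refine IH _ (hI ▸ span_lt hx hb0 hbe) a' ha' b' hb' (fun h => hb0 (by rw [hbe, h, zero_mul]))
        (mul_right_cancel₀ hx0 ?_) rfl
      rw [mul_assoc, ← hbe, hab, hae]
    · rw [residue_ratio hab hbr]
      exact div_mem (hL a ha) (hL b hb)

/-- The residues of a model form a field. -/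
def imageField {S : Subring O} (h : Model k S) : IntermediateField k (ResidueField O) :=
  Subalgebra.toIntermediateField
    { (S.map (residue O)) with
      algebraMap_mem' := fun c => by
        obtain ⟨s, hs, he⟩ := h.base c
        exact ⟨s, hs, he⟩ }
    (fun c hc => by
      obtain ⟨s, hs, rfl⟩ := hc
      have hint : IsIntegral k (residue O s) := (h.alg s hs).isIntegral
      have hmem : (residue O s)⁻¹ ∈ IntermediateField.adjoin k {residue O s} :=
        inv_mem (IntermediateField.mem_adjoin_simple_self k _)
      rw [← IntermediateField.mem_toSubalgebra] at hmem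
      rw [IntermediateField.adjoin_simple_toSubalgebra_of_isAlgebraic hint.isAlgebraic] at hmem
      exact Algebra.adjoin_le (Set.singleton_subset_iff.2
        (show residue O s ∈ S.map (residue O) from ⟨s, hs, rfl⟩)) hmem)

theorem mem_imageField {S : Subring O} (h : Model k S) {c : ResidueField O} :
    c ∈ imageField h ↔ ∃ s ∈ S, residue O s = c :=
  Iff.rfl

omit [IsNoetherianRing O] in
theorem eval_mem {S S' : Subring O} (hle : S ≤ S') {t : O} (ht : t ∈ S') (p : S[X]) :
    p.eval₂ S.subtype t ∈ S' := by
  rw [eval₂_eq_sum_range]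
  exact sum_mem fun i _ => mul_mem (hle (p.coeff i).2) (pow_mem ht i)

omit [IsNoetherianRing O] in
theorem residue_eval {S : Subring O} {E : IntermediateField k (ResidueField O)} (φ : S →+* E)
    (hφ : ∀ s : S, (φ s : ResidueField O) = residue O s) (t : O) (p : S[X]) :
    residue O (p.eval₂ S.subtype t) = aeval (residue O t) (p.map φ) := by
  rw [Polynomial.hom_eval₂, aeval_def, eval₂_map]
  congr 1
  exact RingHom.ext fun s => (hφ s).symm

/-- One step: either the residue of `f` is algebraic, or the residue field has one generator. -/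
theorem dichotomy (htot : ∀ x y : O, (∃ t, y = t * x) ∨ ∃ t, x = t * y) (f : O) (I : Ideal O) :
    ∀ S : Subring O, Model k S → (∀ g : O, ∃ a ∈ S, ∃ b ∈ S, b ≠ 0 ∧ g * b = a) →
      ∀ a ∈ S, ∀ b ∈ S, b ≠ 0 → f * b = a → Ideal.span {b} = I →
        IsAlgebraic k (residue O f) ∨ OneGen k O := by
  induction I using WellFoundedGT.induction with
  | ind I IH =>
    intro S hS hfrac a ha b hb hb0 hab hI
    by_cases hbr : residue O b = 0
    swap
    · left
      rw [residue_ratio hab hbr]
      exact mem_algebraicClosure_iff.1 (div_mem (mem_algebraicClosure_iff.2 (hS.alg a ha))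
        (mem_algebraicClosure_iff.2 (hS.alg b hb)))
    obtain ⟨x, hx, y, hy, hxr, hyr, hgen⟩ := hS.gens
    wlog hxy : ∃ t, y = t * x generalizing x y
    · exact this y hy x hx hyr hxr (fun s hs h => by
        obtain ⟨p, hp, q, hq, rfl⟩ := hgen s hs h
        exact ⟨q, hq, p, hp, add_comm _ _⟩) ((htot x y).resolve_left hxy)
    obtain ⟨t, rfl⟩ := hxy
    let E := imageField hS
    let φ : S →+* E := ((residue O).comp S.subtype).codRestrict E fun s => ⟨s.1, s.2, rfl⟩
    have hφ : ∀ s : S, (φ s : ResidueField O) = residue O s := fun _ => rfl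
    have hφs : Function.Surjective φ := fun c => by
      obtain ⟨s, hs, he⟩ := (mem_imageField hS).1 c.2
      exact ⟨⟨s, hs⟩, Subtype.ext he⟩
    let ev : S[X] →+* O := eval₂RingHom S.subtype t
    let S' : Subring O := ev.range
    have hSS' : S ≤ S' := fun s hs => ⟨C ⟨s, hs⟩, by simp [ev]⟩
    have htS' : t ∈ S' := ⟨X, by simp [ev]⟩
    have hres : ∀ p : S[X], residue O (ev p) = aeval (residue O t) (p.map φ) :=
      residue_eval φ hφ t
    have hsmall : ∀ r : S[X], r.map φ = 0 → ∃ c ∈ S', ev r = c * x := by
      intro r hr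
      have hc : ∀ i, ∃ p : S, ∃ q : S, (r.coeff i : O) = p * x + q * (t * x) := fun i => by
        have h0 : residue O (r.coeff i : O) = 0 := by
          have := congrArg (fun P : E[X] => ((P.coeff i : E) : ResidueField O)) hr
          simpa [coeff_map, hφ] using this
        obtain ⟨p, hp, q, hq, he⟩ := hgen _ (r.coeff i).2 h0
        exact ⟨⟨p, hp⟩, ⟨q, hq⟩, he⟩
      choose p q he using hc
      refine ⟨∑ i ∈ Finset.range (r.natDegree + 1), ((p i : O) + q i * t) * t ^ i,
        sum_mem fun i _ => mul_mem (add_mem (hSS' (p i).2) (mul_mem (hSS' (q i).2) htS')) (pow_mem htS' i), ?_⟩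
      show r.eval₂ S.subtype t = _
      rw [eval₂_eq_sum_range, Finset.sum_mul]
      refine Finset.sum_congr rfl fun i _ => ?_
      rw [Subring.coe_subtype, he]
      ring
    have hfrac' : ∀ g : O, ∃ a ∈ S', ∃ b ∈ S', b ≠ 0 ∧ g * b = a := fun g => by
      obtain ⟨a, ha, b, hb, h1, h2⟩ := hfrac g
      exact ⟨a, hSS' ha, b, hSS' hb, h1, h2⟩
    by_cases hτ : IsAlgebraic k (residue O t)
    · have hint : IsIntegral E (residue O t) := hτ.isIntegral.tower_top
      obtain ⟨g, hgmap, -, hgm⟩ : ∃ g : S[X], g.map φ = minpoly E (residue O t) ∧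
          g.degree = (minpoly E (residue O t)).degree ∧ g.Monic :=
        lifts_and_degree_eq_and_monic ((mem_lifts _).2 (map_surjective φ hφs _)) (minpoly.monic hint)
      have hg0 : residue O (ev g) = 0 := by rw [hres, hgmap, minpoly.aeval]
      have hM : Model k S' := by
        refine ⟨?_, fun c => (hS.base c).imp fun s hs => ⟨hSS' hs.1, hs.2⟩,
          x, hSS' hx, ev g, ⟨g, rfl⟩, hxr, hg0, ?_⟩
        · rintro _ ⟨p, rfl⟩
          rw [hres, aeval_eq_sum_range]
          refine mem_algebraicClosure_iff.1 (sum_mem fun i _ => ?_)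
          rw [IntermediateField.smul_def, smul_eq_mul]
          refine mul_mem (mem_algebraicClosure_iff.2 ?_) (pow_mem (mem_algebraicClosure_iff.2 hτ) i)
          obtain ⟨s, hs, he⟩ := (mem_imageField hS).1 ((p.map φ).coeff i).2
          exact he ▸ hS.alg s hs
        · rintro _ ⟨p, rfl⟩ hp0
          have hdvd : (p %ₘ g).map φ = 0 := by
            rw [map_modByMonic _ hgm, hgmap, modByMonic_eq_zero_iff_dvd (minpoly.monic hint)]
            exact minpoly.dvd E _ ((hres p).symm.trans hp0)
          obtain ⟨c, hc, hce⟩ := hsmall _ hdvd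
          refine ⟨c, hc, ev (p /ₘ g), ⟨_, rfl⟩, ?_⟩
          conv_lhs => rw [← modByMonic_add_div p g]
          rw [map_add, map_mul, hce]
          ring
      obtain ⟨p, hp, q, hq, hbe⟩ := hgen b hb hbr
      obtain ⟨p', hp', q', hq', hae⟩ := hgen a ha (by rw [← hab, map_mul, hbr, mul_zero])
      have hx0 : x ≠ 0 := fun h => hb0 (by rw [hbe, h]; ring)
      have hbe' : b = (p + q * t) * x := by rw [hbe]; ring
      refine IH _ (hI ▸ span_lt hxr hb0 hbe') S' hM hfrac' (p' + q' * t)
        (add_mem (hSS' hp') (mul_mem (hSS' hq') htS')) (p + q * t)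
        (add_mem (hSS' hp) (mul_mem (hSS' hq) htS')) (fun h => hb0 (by rw [hbe', h, zero_mul]))
        (mul_right_cancel₀ hx0 ?_) rfl
      rw [mul_assoc, ← hbe', hab, hae]
      ring
    · right
      refine ⟨residue O t, hτ, eq_top_iff.2 fun z _ => ?_⟩
      obtain ⟨g, rfl⟩ := residue_surjective z
      have hτE : Transcendental E (residue O t) := by
        intro hE
        refine hτ ?_
        haveI : Algebra.IsAlgebraic k E := ⟨fun c => by
          obtain ⟨s, hs, he⟩ := (mem_imageField hS).1 c.2
          exact (isAlgebraic_algebraMap_iff (algebraMap E (ResidueField O)).injective).1 (by rw [IntermediateField.algebraMap_apply, ← he]; exact hS.alg s hs)⟩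
        exact hE.restrictScalars k
      have hker : ∀ s ∈ S', residue O s = 0 → ∃ c ∈ S', s = c * x := by
        rintro _ ⟨p, rfl⟩ hp0
        exact hsmall p (transcendental_iff.1 hτE _ ((hres p).symm.trans hp0))
      let L := IntermediateField.adjoin (algebraicClosure k (ResidueField O)) {residue O t}
      refine residue_mem_of_principal (L := L.restrictScalars k) S' hxr hker ?_ hfrac' g
      rintro _ ⟨p, rfl⟩
      rw [hres, aeval_eq_sum_range]
      refine sum_mem fun i _ => ?_
      rw [IntermediateField.smul_def, smul_eq_mul]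
      refine mul_mem ?_ (pow_mem (IntermediateField.mem_adjoin_simple_self _ _) i)
      obtain ⟨s, hs, he⟩ := (mem_imageField hS).1 ((p.map φ).coeff i).2
      exact he ▸ L.algebraMap_mem ⟨_, mem_algebraicClosure_iff.2 (hS.alg s hs)⟩

/-- The residue field consists of algebraic elements, or is rational over them. -/
theorem algebraic_or_oneGen (htot : ∀ x y : O, (∃ t, y = t * x) ∨ ∃ t, x = t * y) (S : Subring O)
    (hS : Model k S) (hfrac : ∀ g : O, ∃ a ∈ S, ∃ b ∈ S, b ≠ 0 ∧ g * b = a) :
    (∀ z : ResidueField O, IsAlgebraic k z) ∨ OneGen k O := by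
  by_cases h : OneGen k O
  · exact Or.inr h
  refine Or.inl fun z => ?_
  obtain ⟨f, rfl⟩ := residue_surjective z
  obtain ⟨a, ha, b, hb, hb0, hab⟩ := hfrac f
  exact (dichotomy htot f _ S hS hfrac a ha b hb hb0 hab rfl).resolve_right h

end Groth.L18.RatPoint
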