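import Groth.Agent.L18.RatPoint.NoRatVariety
import Groth.Agent.L18.RatPoint.Main
import Groth.Agent.L21.ProjLine
import Groth.Prelude.Def_CohB1

/-!
Varieties without rational curves.
-/

set_option autoImplicit false
set_option linter.style.haveILetI false
set_option backward.isDefEq.respectTransparency.types false

universe u

open CategoryTheory CategoryTheory.Limits AlgebraicGeometry TopologicalSpace IsLocalRing

noncomputable section

namespace Groth.L18.RatPoint

variable {k : Type u} [Field k]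

/-- Morphisms from the spectrum of `k(T)` extend to the projective line. -/
theorem exists_hom_projLine {Y : Scheme.{u}} (p : Y ⟶ Spec (CommRingCat.of k)) [IsProper p]
    (m : Spec (CommRingCat.of (RatFunc k)) ⟶ Y) (hm : m ≫ p = ratProj k) :
    ∃ g : CohB1.ProjSpace 1 k ⟶ Y, g ≫ p = CohB1.ProjSpace.toSpec 1 k ∧
      ∃ a : Spec (CommRingCat.of (RatFunc k)) ⟶ CohB1.ProjSpace 1 k, a ≫ g = m := by
  haveI : IsIntegral (CohB1.ProjSpace 1 k) := Groth.L16.ProjSpace.isIntegral (n := 1) (R := k)
  set P := CohB1.ProjSpace 1 k with hP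
  set q := CohB1.ProjSpace.toSpec 1 k with hq
  haveI : IsLocallyNoetherian P := LocallyOfFiniteType.isLocallyNoetherian q
  haveI : CompactSpace P := QuasiCompact.compactSpace_of_compactSpace q
  obtain ⟨θ, hθ⟩ := Groth.L21.ProjLine.exists_ringEquiv_ratFunc (k := k)
  let e : CommRingCat.of (RatFunc k) ⟶ P.functionField := CommRingCat.ofHom θ.symm.toRingHom
  haveI : IsIso e := (ConcreteCategory.isIso_iff_bijective e).2 θ.symm.bijective
  have hq' : P.fromSpecStalk (genericPoint P) ≫ q = Spec.map e ≫ ratProj k := by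
    rw [← Spec.map_comp]
    have hc : CommRingCat.ofHom (algebraMap k (RatFunc k)) ≫ e = CommRingCat.ofHom (Groth.L21.ProjLine.cst q) := by
      ext c
      exact (congrArg θ.symm (hθ c).symm).trans (θ.symm_apply_apply _)
    rw [hc, ← cancel_mono (Spec (CommRingCat.of k)).toSpecΓ, Category.assoc, Scheme.toSpecΓ_naturality,
      Scheme.fromSpecStalk_toSpecΓ_assoc, ← SpecMap_ΓSpecIso_hom, ← Spec.map_comp, ← Spec.map_comp]
    congr 1
    ext c
    exact ((congrArg _ (ConcreteCategory.congr_hom (Scheme.ΓSpecIso (CommRingCat.of k)).hom_inv_id c).symm)).trans rfl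
  obtain ⟨W, hηW, h, hh, hhp⟩ := spread_out_of_isGermInjective' (x := genericPoint P) q p
    (Spec.map e ≫ m) (by rw [Category.assoc, hm, hq'])
  have hWd : Dense (W : Set P) := W.2.dense ⟨_, hηW⟩
  obtain ⟨U, hWU, g, hg, hgh, hU⟩ := Groth.L18.Codim1.exists_extension_proper p q W hWd h hhp Set.univ
    fun y _ => by
      haveI := Groth.L26.Weil.regular_stalk q y
      refine Groth.L18.Codim1.isDomain_valuationRing_of_regular _ ?_
      obtain ⟨x, hxy, hx⟩ := isClosed_closure.exists_closed_singleton (S := closure ({y} : Set P))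
        ⟨y, subset_closure rfl⟩
      exact (Groth.L18.Codim1.ringKrullDim_stalk_le_of_specializes (specializes_iff_mem_closure.2 hxy)).trans
        (Groth.L18.CurveModel.dim_stalk_projLine x hx).le
  have hUtop : U = ⊤ := top_unique fun y _ => hU y trivial
  subst hUtop
  refine ⟨(Scheme.topIso P).inv ≫ g, by rw [Category.assoc, hg, ← Scheme.topIso_hom, Iso.inv_hom_id_assoc],
    inv (Spec.map e) ≫ P.fromSpecStalk (genericPoint P), ?_⟩
  rw [Category.assoc, IsIso.inv_comp_eq, hh, ← hgh, ← Category.assoc, ← Category.assoc]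
  congr 1
  show P.fromSpecStalk (genericPoint P) ≫ (Scheme.topIso P).inv =
    W.fromSpecStalkOfMem (genericPoint P) hηW ≫ P.homOfLE hWU
  rw [Iso.comp_inv_eq, Category.assoc, Scheme.topIso_hom, Scheme.homOfLE_ι]
  exact (Scheme.Opens.fromSpecStalkOfMem_ι W _ hηW).symm

/-- A proper scheme over an algebraically closed field with all maps from the projective line constant
has no rational curves over any field. -/
theorem noRat_of_projLine [IsAlgClosed k] {Y : Scheme.{u}} (p : Y ⟶ Spec (CommRingCat.of k)) [IsProper p]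
    (hno : ∀ g : CohB1.ProjSpace 1 k ⟶ Y, g ≫ p = CohB1.ProjSpace.toSpec 1 k →
      ∃ y : Y, Set.range g.base ⊆ {y}) : NoRat p := by
  intro K _ b m hm
  obtain ⟨β, rfl⟩ := Spec.map_surjective b
  letI := β.hom.toAlgebra
  obtain ⟨_, ⟨U, hU, rfl⟩, hxU, -⟩ :=
    Y.isBasis_affineOpens.exists_subset_of_mem_open (Set.mem_univ (m (closedPoint (RatFunc K)))) isOpen_univ
  replace hU : IsAffineOpen U := hU
  have hmU : Set.range m ⊆ Set.range hU.fromSpec := by
    rw [hU.range_fromSpec]
    rintro _ ⟨z, rfl⟩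
    haveI : Subsingleton (Spec (CommRingCat.of (RatFunc K))) :=
      inferInstanceAs (Subsingleton (PrimeSpectrum (RatFunc K)))
    rw [Subsingleton.elim z (closedPoint (RatFunc K))]
    exact hxU
  obtain ⟨φ, hφ⟩ : ∃ φ : Γ(Y, U) ⟶ CommRingCat.of (RatFunc K), Spec.map φ ≫ hU.fromSpec = m :=
    ⟨Spec.preimage (IsOpenImmersion.lift hU.fromSpec m hmU), by rw [Spec.map_preimage, IsOpenImmersion.lift_fac]⟩
  obtain ⟨α, hα⟩ : ∃ α : CommRingCat.of k ⟶ Γ(Y, U), Spec.map α = hU.fromSpec ≫ p :=
    ⟨Spec.preimage _, Spec.map_preimage _⟩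
  letI := α.hom.toAlgebra
  haveI : Algebra.FiniteType k Γ(Y, U) := by
    haveI : LocallyOfFiniteType (Spec.map α) := by rw [hα]; infer_instance
    exact RingHom.finiteType_algebraMap.1 ((HasRingHomProperty.Spec_iff (P := @LocallyOfFiniteType)).1 this)
  have hαφ : α ≫ φ = β ≫ CommRingCat.ofHom (algebraMap K (RatFunc K)) := by
    apply Spec.map_injective
    rw [Spec.map_comp, hα, reassoc_of% hφ, hm, Spec.map_comp]
  by_cases hc : ∀ z, φ.hom z ∈ (algebraMap K (RatFunc K)).range
  · choose γ hγ using hc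
    have hinj := (algebraMap K (RatFunc K)).injective
    let γh : Γ(Y, U) ⟶ CommRingCat.of K := CommRingCat.ofHom
      { toFun := γ
        map_one' := hinj ((hγ _).trans (φ.hom.map_one.trans (map_one _).symm))
        map_mul' := fun a b => hinj ((hγ _).trans ((φ.hom.map_mul a b).trans
          ((congrArg₂ (· * ·) (hγ a).symm (hγ b).symm).trans (map_mul _ _ _).symm)))
        map_zero' := hinj ((hγ _).trans (φ.hom.map_zero.trans (map_zero _).symm))
        map_add' := fun a b => hinj ((hγ _).trans ((φ.hom.map_add a b).trans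
          ((congrArg₂ (· + ·) (hγ a).symm (hγ b).symm).trans (map_add _ _ _).symm))) }
    refine ⟨Spec.map γh ≫ hU.fromSpec, ?_⟩
    rw [← Spec.map_comp_assoc, ← hφ]
    congr 2
    ext z
    exact (hγ z).symm
  exfalso
  push Not at hc
  obtain ⟨ψ, z, hz⟩ := exists_nonconstant_point (k := k) (K := K)
    ({ φ.hom with commutes' := fun c => congr($hαφ c) } : Γ(Y, U) →ₐ[k] RatFunc K) hc
  let ψh : Γ(Y, U) ⟶ CommRingCat.of (RatFunc k) := CommRingCat.ofHom ψ.toRingHom
  obtain ⟨g, hg, a, ha⟩ := exists_hom_projLine p (Spec.map ψh ≫ hU.fromSpec) (by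
    rw [Category.assoc, ← hα, ← Spec.map_comp]
    congr 1
    ext c
    exact ψ.commutes c)
  obtain ⟨y, hy⟩ := hno g hg
  haveI : Nonempty (CohB1.ProjSpace 1 k) := ⟨a (closedPoint (RatFunc k))⟩
  have hrange : Set.range g.base = {y} :=
    Set.Nonempty.subset_singleton_iff (Set.range_nonempty _) |>.1 hy
  haveI : IsProper (g ≫ p) := by rw [hg]; infer_instance
  haveI : IsProper g := IsProper.of_comp g p
  have hyc : IsClosed ({y} : Set Y) := by rw [← hrange]; exact g.isClosedMap.isClosed_range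
  have hpt : hU.fromSpec (Spec.map ψh (closedPoint (RatFunc k))) = y := by
    rw [← Scheme.Hom.comp_apply, ← ha, Scheme.Hom.comp_apply]
    exact hy ⟨_, rfl⟩
  have hmax : (RingHom.ker ψ.toRingHom).IsMaximal := by
    have h1 : (Spec.map ψh (closedPoint (RatFunc k))).asIdeal = RingHom.ker ψ.toRingHom := by
      show (maximalIdeal (RatFunc k)).comap ψ.toRingHom = _
      rw [isField_iff_maximalIdeal_eq.1 (Field.toIsField (RatFunc k)), ← RingHom.ker_eq_comap_bot]
    rw [← h1, ← PrimeSpectrum.isClosed_singleton_iff_isMaximal]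
    have h2 := hyc.preimage hU.fromSpec.continuous
    rw [← hpt, ← Set.image_singleton, Set.preimage_image_eq _ hU.fromSpec.isOpenEmbedding.injective] at h2
    exact h2
  letI := Ideal.Quotient.field (RingHom.ker ψ.toRingHom)
  haveI : Algebra.FiniteType k (Γ(Y, U) ⧸ RingHom.ker ψ.toRingHom) := inferInstance
  haveI : Module.Finite k (Γ(Y, U) ⧸ RingHom.ker ψ.toRingHom) := finite_of_finite_type_of_isJacobsonRing k _
  obtain ⟨c, hc⟩ := (IsAlgClosed.algebraMap_bijective_of_isIntegral (k := k)
    (K := Γ(Y, U) ⧸ RingHom.ker ψ.toRingHom)).2 (Ideal.Quotient.mk _ z)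
  refine hz ⟨c, ?_⟩
  rw [IsScalarTower.algebraMap_apply k Γ(Y, U) (Γ(Y, U) ⧸ RingHom.ker ψ.toRingHom)] at hc
  have h3 := Ideal.Quotient.eq.1 hc
  rw [RingHom.mem_ker, map_sub, sub_eq_zero] at h3
  exact (ψ.commutes c).symm.trans h3

end Groth.L18.RatPoint
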