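import Groth.Agent.L18.RatPoint.Variety

/-!
Rational maps to varieties without rational curves are morphisms.
-/

set_option autoImplicit false
set_option linter.style.haveILetI false
set_option backward.isDefEq.respectTransparency.types false

universe u

open CategoryTheory CategoryTheory.Limits AlgebraicGeometry

noncomputable section

namespace Groth.L18.RatPoint

/-- Rational maps from regular varieties to proper varieties without rational curves extend. -/
theorem exists_extend_variety {k : Type u} [Field k] [IsAlgClosed k] {X Y : Scheme.{u}}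
    (q : X ⟶ Spec (CommRingCat.of k)) [Smooth q] [IsIntegral X] (p : Y ⟶ Spec (CommRingCat.of k)) [IsProper p]
    (hno : ∀ g : CohB1.ProjSpace 1 k ⟶ Y, g ≫ p = CohB1.ProjSpace.toSpec 1 k →
      ∃ y : Y, Set.range g.base ⊆ {y})
    (U : X.Opens) (hU : (U : Set X).Nonempty) (g : (U : Scheme.{u}) ⟶ Y) (hg : g ≫ p = U.ι ≫ q) :
    ∃ g' : X ⟶ Y, U.ι ≫ g' = g ∧ g' ≫ p = q := by
  haveI : IsLocallyNoetherian X := LocallyOfFiniteType.isLocallyNoetherian q
  haveI : IsProper (pullback.snd p q) := MorphismProperty.pullback_snd (P := @IsProper) _ _ inferInstance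
  obtain ⟨F, ⟨hF, hFg⟩, -⟩ := Groth.L26.Weil.existsUnique_extension q p U (U.2.dense hU) g hg fun x => by
    haveI := Groth.L26.Weil.regular_stalk q x
    obtain ⟨W, h, hxW, hh, hh'⟩ := exists_extension_at (pullback.snd p q)
      ((noRat_of_projLine p hno).pullback q) U (U.2.dense hU) (pullback.lift g U.ι hg) (pullback.lift_snd _ _ _) x
    refine ⟨W, h ≫ pullback.fst p q, hxW, by rw [Category.assoc, pullback.condition, reassoc_of% hh], ?_⟩
    have h2 := congrArg (fun ψ => X.homOfLE (le_inf inf_le_right inf_le_left : U ⊓ W ≤ W ⊓ U) ≫ ψ ≫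
      pullback.fst p q) hh'
    simpa only [Category.assoc, Scheme.homOfLE_homOfLE_assoc, pullback.lift_fst] using h2
  exact ⟨F, hFg, hF⟩

theorem isProper_of_closedImmersion_projSpace {k : Type u} [Field k] {X : Scheme.{u}}
    (q : X ⟶ Spec (CommRingCat.of k))
    (h : ∃ (n : ℕ) (ι : X ⟶ CohB1.ProjSpace n k), IsClosedImmersion ι ∧
      ι ≫ CohB1.ProjSpace.toSpec n k = q) : IsProper q := by
  obtain ⟨n, ι, hι, rfl⟩ := h
  haveI : IsProper (CohB1.ProjSpace.toSpec n k) := Groth.L16.ProjSpace.isProper_toSpec n k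
  infer_instance

end Groth.L18.RatPoint
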